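import Groth.Agent.L20.SchDesc.Sigma
import Groth.Agent.L19.FpqcCover

/-!
# Affine opens of an fpqc cover form a covering family
-/

set_option autoImplicit false
universe u

open CategoryTheory CategoryTheory.Limits AlgebraicGeometry TopologicalSpace

set_option backward.isDefEq.respectTransparency.types false

noncomputable section

namespace Groth.L25.SplitHom

theorem cov_of_opens {S S' : Scheme.{u}} (f : S' ⟶ S) [Flat f] (hs : Surjective f)
    (hqc : ∀ V : S.Opens, IsAffineOpen V → ∃ W : S'.Opens, IsCompact (W : Set S') ∧ f.base '' (W : Set S') = (V : Set S))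
    {ι : Type u} (W : ι → S'.Opens) (hW : ∀ z : S', ∃ i, z ∈ W i) :
    Groth.L20.SchDesc.Cov (Sigma.desc fun i => (W i).ι ≫ f) := by
  classical
  refine Groth.L20.SchDesc.cov_sigmaDesc _ (Groth.L19.fpqc_mem_iff.2 ⟨?_, ?_⟩)
  · refine (Scheme.presieve₀_mem_qcPrecoverage_iff (E := PreZeroHypercover.mk ι (fun i => (W i).toScheme)
      fun i => (W i).ι ≫ f)).2 ⟨fun {V} hV => ?_⟩
    obtain ⟨C, hC, hCV⟩ := hqc V hV
    have hb : ∀ x : C, ∃ (i : ι) (A : S'.Opens), IsAffineOpen A ∧ x.1 ∈ A ∧ A ≤ C ⊓ W i := by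
      intro x
      obtain ⟨i, hi⟩ := hW x.1
      obtain ⟨_, ⟨A, hA, rfl⟩, hxA, hle⟩ := S'.isBasis_affineOpens.exists_subset_of_mem_open
        (show x.1 ∈ C ⊓ W i from ⟨x.2, hi⟩) (C ⊓ W i).2
      exact ⟨i, A, hA, hxA, hle⟩
    choose i A hA hxA hle using hb
    obtain ⟨t, ht⟩ := hC.elim_finite_subcover (fun x : C => (A x : Set S')) (fun x => (A x).2)
      (fun y hy => Set.mem_iUnion.2 ⟨⟨y, hy⟩, hxA ⟨y, hy⟩⟩)
    refine IsCompactOpenCovered.of_iUnion_eq_of_finite (fun x : t => f.base '' (A x.1 : Set S')) ?_ fun x => ?_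
    · rw [← hCV]
      refine Set.Subset.antisymm (Set.iUnion_subset fun x => Set.image_mono fun y hy => (hle x.1 hy).1) ?_
      rintro _ ⟨y, hy, rfl⟩
      obtain ⟨x, hx, hyx⟩ := Set.mem_iUnion₂.1 (ht hy)
      exact Set.mem_iUnion.2 ⟨⟨x, hx⟩, y, hyx, rfl⟩
    · refine ⟨{i x.1}, Set.finite_singleton _, fun k _ => (W k).ι ⁻¹ᵁ A x.1, fun k hk => ?_, ?_⟩
      · obtain rfl : k = i x.1 := hk
        refine (W (i x.1)).ι.isOpenEmbedding.isInducing.isCompact_preimage' (hA x.1).isCompact ?_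
        rw [Scheme.Opens.range_ι]
        exact fun y hy => (hle x.1 hy).2
      · ext y
        simp only [Set.mem_iUnion]
        constructor
        · rintro ⟨k, -, w, hw, rfl⟩
          exact ⟨(W k).ι w, hw, rfl⟩
        · rintro ⟨w, hw, rfl⟩
          exact ⟨i x.1, rfl, ⟨w, (hle x.1 hw).2⟩, hw, rfl⟩
  · rw [Scheme.ofArrows_mem_precoverage_iff]
    refine ⟨fun s => ?_, fun i => inferInstance⟩
    obtain ⟨z, rfl⟩ := hs.surj s
    obtain ⟨i, hi⟩ := hW z
    exact ⟨i, ⟨z, hi⟩, rfl⟩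

end Groth.L25.SplitHom
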