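import Groth.Agent.L25.SplitHom.Coeff
import Groth.Agent.L25.Char.ModelLocal
import Groth.Agent.L25.MultType.Cover
import Groth.Agent.L11.HopfUnion

/-!
# A flat finitely presented Hopf algebra is generated by a finite family stable under comultiplication
-/

set_option autoImplicit false
universe u

open TensorProduct

noncomputable section

namespace Groth.L25.SplitHom

theorem nonempty_datum_of_noetherian {R : Type u} [CommRing R] [IsNoetherianRing R] (A : Type u) [CommRing A]
    [HopfAlgebra R A] [Module.Flat R A] [Algebra.FiniteType R A] : Nonempty (Datum R A) := by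
  classical
  obtain ⟨F, hF⟩ := (Algebra.FiniteType.out : (⊤ : Subalgebra R A).FG)
  obtain ⟨V, hfg, hFV, hcomod⟩ := Groth.L11.HopfUnion.exists_fg_subcomodule (R := R) F
  haveI : Module.Finite R V := Module.Finite.iff_fg.2 hfg
  obtain ⟨n, v, hv⟩ := Module.Finite.exists_fin (R := R) (M := V)
  have hb : ∀ i, ∃ b : Fin n → A, Coalgebra.comul (R := R) (v i : A) = ∑ k, (v k : A) ⊗ₜ[R] b k := by
    intro i
    obtain ⟨z, hz⟩ := hcomod _ (v i).2
    obtain ⟨b, rfl⟩ := Groth.L11.HopfUnion.exists_expansion v hv z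
    exact ⟨b, by rw [← hz]; simp [map_sum]⟩
  choose b hb using hb
  refine ⟨⟨n, fun i => (v i : A), b, hb, top_le_iff.1 (hF ▸ Algebra.adjoin_le fun f hf => ?_)⟩⟩
  have h1 : (⟨f, hFV hf⟩ : V) ∈ Submodule.span R (Set.range v) := hv ▸ Submodule.mem_top
  have h2 : f ∈ Submodule.span R (Set.range fun i => (v i : A)) := by
    have := Submodule.apply_mem_span_image_of_mem_span V.subtype h1
    rwa [← Set.range_comp] at this
  exact Algebra.span_le_adjoin R _ h2

theorem nonempty_datum (R : Type u) [CommRing R] (A : Type u) [CommRing A] [HopfAlgebra R A] [Module.Flat R A]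
    [Algebra.FinitePresentation R A] : Nonempty (Datum R A) := by
  obtain ⟨R₀, _, _, _, C₀, _, _, hfp, ⟨e⟩⟩ := Groth.L25.Char.Model.exists_hopf_model A (R := R) inferInstance
  haveI := hfp
  haveI : Module.Flat R (R ⊗[R₀] C₀) := Module.Flat.of_linearEquiv e.toAlgEquiv.toLinearEquiv
  obtain ⟨U, hU, hflat⟩ := Groth.L25.Char.Model.exists_flat_subalgebra (U := R₀) (R := R) C₀
  haveI := hflat
  haveI : Algebra.FiniteType R₀ U := U.fg_iff_finiteType.mp hU
  haveI : IsNoetherianRing U := Algebra.FiniteType.isNoetherianRing R₀ U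
  obtain ⟨d⟩ := nonempty_datum_of_noetherian (R := U) (U ⊗[R₀] C₀)
  let E : R ⊗[U] (U ⊗[R₀] C₀) ≃ₐc[R] A := (Groth.L25.MultType.cancelBialg R₀ U R C₀).trans e
  let θ : U ⊗[R₀] C₀ → A := fun x => E ((1 : R) ⊗ₜ[U] x)
  refine ⟨⟨d.n, fun i => θ (d.v i), fun i k => θ (d.b i k), fun i => ?_, ?_⟩⟩
  · have h1 : Coalgebra.comul (R := R) (θ (d.v i)) =
        TensorProduct.map (E : _ →ₗ[R] A) (E : _ →ₗ[R] A)
          (Coalgebra.comul (R := R) ((1 : R) ⊗ₜ[U] d.v i)) :=
      (CoalgHomClass.map_comp_comul_apply E _).symm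
    rw [h1, TensorProduct.comul_tmul, Bialgebra.comul_one, d.comul_v i, Algebra.TensorProduct.one_def]
    simp [TensorProduct.tmul_sum, map_sum, θ]
  · let f : R ⊗[U] (U ⊗[R₀] C₀) →ₐ[R] A := E.toAlgEquiv.toAlgHom
    have hrange : Set.range (fun i => θ (d.v i)) = f '' (((1 : R) ⊗ₜ[U] ·) '' Set.range d.v) := by
      rw [← Set.range_comp, ← Set.range_comp]
      rfl
    rw [hrange, ← AlgHom.map_adjoin, Algebra.TensorProduct.adjoin_one_tmul_image_eq_top _ d.adjoin_v,
      Algebra.map_top, AlgHom.range_eq_top]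
    exact E.toAlgEquiv.surjective

end Groth.L25.SplitHom
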