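import Groth.Agent.L25.SplitHom.Rep
import Groth.Agent.L25.SplitHom.Datum
import Groth.Agent.L25.SplitHom.Cov
import Groth.Agent.L25.HomSmooth.Main
import Groth.Agent.L25.HomScheme.QuasiIso
import Groth.Agent.L25.Locus.Smooth
import Groth.Agent.L23.Descent
import Mathlib.AlgebraicGeometry.Morphisms.Separated
import Mathlib.AlgebraicGeometry.Morphisms.LocalFlatDescent

/-!
# Homomorphisms from a group of multiplicative type to a smooth affine group are representable
-/

set_option autoImplicit false
universe u

open CategoryTheory CategoryTheory.Limits MonoidalCategory CartesianMonoidalCategory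
open AlgebraicGeometry
open scoped MonObj

set_option backward.isDefEq.respectTransparency.types false
set_option linter.style.haveILetI false

noncomputable section

namespace Groth.L25.SplitHom

open Groth.L25.Cocycle Groth.L25.HomScheme Groth.L20.SchDesc

variable {S : Scheme.{u}}

theorem cov_of_isos {κ : Type u} {X Y : κ → Scheme.{u}} (g : ∀ i, X i ⟶ S) (h : ∀ i, Y i ⟶ S) (φ : ∀ i, X i ≅ Y i)
    (hφ : ∀ i, (φ i).hom ≫ h i = g i) [Cov (Sigma.desc h)] : Cov (Sigma.desc g) := by
  refine Cov.of_isPullback (p := Sigma.desc h) (f := (Sigma.mapIso φ).hom) (a := 𝟙 S) (H := ?_)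
  refine IsPullback.of_horiz_isIso ⟨?_⟩
  rw [Category.comp_id]
  refine Sigma.hom_ext _ _ fun i => ?_
  show Sigma.ι X i ≫ Limits.Sigma.map (fun i => (φ i).hom) ≫ Sigma.desc h = _
  rw [Sigma.ι_map_assoc, Sigma.ι_desc, Sigma.ι_desc, hφ]

/-- An affine group, flat and of finite presentation, has a chart with a datum. -/
theorem exists_gchart_datum {R : Type u} [CommRing R] (G : Over S) [GrpObj G] [IsAffineHom G.hom] [Flat G.hom]
    [LocallyOfFinitePresentation G.hom] (j : Spec (CommRingCat.of R) ⟶ S) :
    ∃ (A : Type u) (_ : CommRing A) (_ : HopfAlgebra R A) (_ : GChart j G A) (_ : Datum R A),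
      Algebra.FinitePresentation R A := by
  obtain ⟨A, _, _, g, ⟨e⟩⟩ := exists_gchart G j
  have hfl : Flat (Red.bc j G).hom := MorphismProperty.pullback_snd _ _ ‹Flat G.hom›
  have hlfp : LocallyOfFinitePresentation (Red.bc j G).hom :=
    MorphismProperty.pullback_snd _ _ ‹LocallyOfFinitePresentation G.hom›
  haveI : IsIso e.inv.hom.hom := inferInstanceAs (IsIso ((Grp.forget _).map e.inv))
  haveI : IsIso e.inv.hom.hom.left := inferInstanceAs (IsIso ((Over.forget _).map e.inv.hom.hom))
  have h1 : Flat (Bridge.P R A).hom := by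
    rw [← Over.w e.inv.hom.hom]
    infer_instance
  have h2 : LocallyOfFinitePresentation (Bridge.P R A).hom := by
    rw [← Over.w e.inv.hom.hom]
    infer_instance
  change Flat (Spec.map (CommRingCat.ofHom (algebraMap R A))) at h1
  change LocallyOfFinitePresentation (Spec.map (CommRingCat.ofHom (algebraMap R A))) at h2
  rw [HasRingHomProperty.Spec_iff (P := @Flat), CommRingCat.hom_ofHom, RingHom.flat_algebraMap_iff] at h1
  rw [HasRingHomProperty.Spec_iff (P := @LocallyOfFinitePresentation), CommRingCat.hom_ofHom,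
    RingHom.finitePresentation_algebraMap] at h2
  haveI := h1
  haveI := h2
  obtain ⟨d⟩ := nonempty_datum R A
  exact ⟨A, inferInstance, inferInstance, g, d, inferInstance⟩

/-- Homomorphisms from a group of multiplicative type (of any type) to an affine flat group of finite
presentation are representable. -/
theorem exists_representsHom (H G : Over S) [GrpObj H] [GrpObj G] [IsAffineHom G.hom] [Flat G.hom]
    [LocallyOfFinitePresentation G.hom]
    (hH : TwC.Locally S TwC.Topology.fpqc (fun S' f => ∃ (M : Type) (_ : AddCommGroup M),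
      Nonempty (Grp.mk (Red.bc f H) ≅ Grp.mk (Red.DS S' M)))) :
    ∃ (A : Over S) (υ : H ⊗ A ⟶ G), AutFam.RepresentsHom H G A υ ∧ IsSeparated A.hom ∧
      LocallyOfFinitePresentation A.hom := by
  haveI := HomSmooth.isAffineHom_of_locally hH
  obtain ⟨S', f, hflat, hsurj, hqc, hloc⟩ := hH
  haveI := hflat
  choose U hU M instM e using hloc
  letI := instM
  choose W hWaff hzW hWU using fun z : S' =>
    exists_isAffineOpen_mem_and_subset (X := S') (x := z) (U := U z) (hU z)
  let R : S' → Type u := fun z => Γ(S', W z)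
  let k : ∀ z, Spec (CommRingCat.of (R z)) ⟶ (U z).toScheme := fun z => IsOpenImmersion.lift (U z).ι (hWaff z).fromSpec (by
    rw [Scheme.Opens.range_ι, (hWaff z).range_fromSpec]
    exact hWU z)
  let j : ∀ z, Spec (CommRingCat.of (R z)) ⟶ S := fun z => (hWaff z).fromSpec ≫ f
  have hk : ∀ z, k z ≫ ((U z).ι ≫ f) = j z := fun z => IsOpenImmersion.lift_fac_assoc _ _ _ _
  let ch : ∀ z, Chart (j z) H (Multiplicative (M z)) := fun z => Chart.ofSplit ((U z).ι ≫ f) (k z) (hk z) (e z).some
  choose Al instA instH g d hAfp using fun z => exists_gchart_datum G (j z)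
  letI := instA
  letI := instH
  let P : S' → Over S := fun z => Cocycle.X (j z) (R z)
  let A₁ : S' → Over S := fun z => homSch (j z) (d z) (Multiplicative (M z))
  let r : ∀ z, A₁ z ⟶ P z := fun z => toR (j z) (d z)
  choose ξ hξ using fun z => exists_isRepOn (j z) (d z) (ch z) (g z)
  obtain ⟨ξ₀, hξ₀, -⟩ := Fam.exists_isRepOn_sigma (F := homFam H G) homFam_zarSep homFam_zarGlue hξ
  have hPh : ∀ z, (P z).hom = j z := fun z => by
    show Spec.map (CommRingCat.ofHom (RingHom.id (R z))) ≫ j z = j z
    rw [CommRingCat.ofHom_id, Spec.map_id, Category.id_comp]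
  have hcov : Groth.L20.SchDesc.Cov (Fam.sig P).hom := by
    haveI h0 : Groth.L20.SchDesc.Cov (Sigma.desc fun z => (W z).ι ≫ f) :=
      cov_of_opens f hsurj hqc W fun z => ⟨z, hzW z⟩
    exact cov_of_isos (fun z => (P z).hom) (fun z => (W z).ι ≫ f) (fun z => (hWaff z).isoSpec.symm) fun z => by
      rw [hPh]
      exact (Category.assoc _ _ _).symm
  have hinc : ∀ z, IsOpenImmersion (Fam.inc P z).left := (Fam.inc_openFamily P).isOpenImmersion
  have hqa : MoreMor.IsIndQuasiAffineHom (Fam.sigMap r).left :=
    isIndQuasiAffineHom_of_openCover _ (fun z => (P z).left) (fun z => (A₁ z).left)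
      (fun z => (Fam.inc P z).left) (fun z => (Fam.inc A₁ z).left) (fun z => (r z).left)
      (fun z => (Fam.isPullback_inc z).flip) (fun x => (Fam.inc_openFamily P).covers x)
      fun z => isIndQuasiAffineHom_toR (j z)
  obtain ⟨A, υ, hA, q, sq, -⟩ := hξ₀.exists_rep hqa (homFam_sep _) (homFam_desc _)
  have key : ∀ (Q : MorphismProperty Scheme.{u}) [IsZariskiLocalAtTarget Q] [Q.IsStableUnderBaseChange]
      [Q.DescendsAlong (@Surjective ⊓ @Flat ⊓ @QuasiCompact)], (∀ z, Q (r z).left) → Q A.hom := by
    intro Q _ _ _ hQ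
    refine FpqcLocal.of_fpqc A.hom (𝟙 S) f hqc fun z => ?_
    refine ⟨W z, hzW z, ?_⟩
    refine FpqcLocal.bc_comp A.hom (pullback.snd (𝟙 S) ((W z).ι ≫ f)) ((W z).ι ≫ f) _
      (by rw [← pullback.condition, Category.comp_id]) ?_
    have hsq : IsPullback (r z).left ((Fam.inc A₁ z).left ≫ q.left) (j z) A.hom := by
      have h1 := (Fam.isPullback_inc (r := r) z).paste_vert sq
      rwa [show (Fam.inc P z).left ≫ (Fam.sig P).hom = (P z).hom from Over.w (Fam.inc P z), hPh] at h1
    have h2 : Q (pullback.snd A.hom (j z)) := by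
      rw [← hsq.flip.isoPullback_inv_snd]
      exact (MorphismProperty.cancel_left_of_respectsIso Q _ _).2 (hQ z)
    refine FpqcLocal.bc_comp A.hom (hWaff z).isoSpec.hom (j z) _ ?_ h2
    show (hWaff z).isoSpec.hom ≫ (hWaff z).fromSpec ≫ f = (W z).ι ≫ f
    rw [IsAffineOpen.isoSpec_hom_fromSpec_assoc]
  haveI : MorphismProperty.DescendsAlong (@IsSeparated : MorphismProperty Scheme.{u})
      (@Surjective ⊓ @Flat ⊓ @QuasiCompact) := by
    rw [show (@IsSeparated : MorphismProperty Scheme.{u}) = MorphismProperty.diagonal @IsClosedImmersion from by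
      ext; exact isSeparated_iff _]
    infer_instance
  refine ⟨A, υ.1, representsHom_of_isRep hA, key @IsSeparated fun z => isSeparated_toR (j z),
    key @LocallyOfFinitePresentation fun z => ?_⟩
  haveI := hAfp z
  exact lfp_toR (j z)

end Groth.L25.SplitHom
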