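import Groth.Agent.L25.HomSmooth.Main
import Groth.Agent.L25.Locus.Smooth
import Groth.Prelude.Def_AutFam

/-!
# The scheme of homomorphisms from a group of multiplicative type to a smooth group is smooth
-/

set_option autoImplicit false
universe u

open CategoryTheory CategoryTheory.Limits MonoidalCategory CartesianMonoidalCategory
open AlgebraicGeometry
open scoped MonObj

set_option backward.isDefEq.respectTransparency.types false

noncomputable section

namespace Groth.L25.SplitHom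

variable {S : Scheme.{u}} {H G : Over S} [GrpObj H] [GrpObj G]

section Pt

variable {P : Scheme.{u}} (b : P ⟶ S) (φ : Red.bc b H ⟶ Red.bc b G)

/-- a homomorphism of base changes as a family over the base -/
def famOfHom : H ⊗ Over.mk b ⟶ G :=
  Over.homMk (φ.left ≫ pullback.fst G.hom b) (by
    show (φ.left ≫ pullback.fst G.hom b) ≫ G.hom = pullback.fst H.hom b ≫ H.hom
    rw [Category.assoc, pullback.condition, ← Category.assoc, pullback.condition]
    congr 1
    exact Over.w φ)

theorem lift_famOfHom {Y : Over P} (g : Over.mk (Y.hom ≫ b) ⟶ H) :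
    lift g (Over.homMk Y.hom rfl : Over.mk (Y.hom ≫ b) ⟶ Over.mk b) ≫ famOfHom b φ =
      NilAction.toBase b (NilAction.ofBase b g ≫ φ) := by
  apply Over.OverMorphism.ext
  show _ ≫ φ.left ≫ pullback.fst G.hom b = ((NilAction.ofBase b g).left ≫ φ.left) ≫ pullback.fst G.hom b
  rw [Category.assoc]
  congr 1

theorem isHomFamily_famOfHom [IsMonHom φ] : AutFam.IsHomFamily H G (famOfHom b φ) := by
  intro X g₁ g₂ t
  let Y : Over P := Over.mk t.left
  let e : Over.mk (Y.hom ≫ b) ⟶ X := Over.homMk (𝟙 _) (by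
    show 𝟙 _ ≫ X.hom = t.left ≫ b
    rw [Category.id_comp]; exact (Over.w t).symm)
  have : IsIso e := by
    have : IsIso e.left := inferInstanceAs (IsIso (𝟙 _))
    have : IsIso ((Over.forget S).map e) := this
    exact isIso_of_reflects_iso _ (Over.forget S)
  have het : e ≫ t = Over.homMk Y.hom rfl := Over.OverMorphism.ext (Category.id_comp _)
  have key : ∀ g : X ⟶ H, e ≫ lift g t ≫ famOfHom b φ =
      NilAction.toBase b (NilAction.ofBase b (e ≫ g) ≫ φ) := fun g => by
    rw [← Category.assoc, comp_lift, het, lift_famOfHom]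
  rw [← cancel_epi e, MonObj.comp_mul, key, key, key, MonObj.comp_mul, Locus.ofBase_mul,
    MonObj.mul_comp, NilAction.toBase_mul]

end Pt

/-- the scheme of homomorphisms is smooth when the target is -/
theorem smooth_of_representsHom [Smooth G.hom]
    (hH : TwC.Locally S TwC.Topology.fpqc (fun S' f => ∃ (M : Type) (_ : AddCommGroup M),
      Nonempty (Grp.mk (Red.bc f H) ≅ Grp.mk (Red.DS S' M))))
    {A : Over S} [LocallyOfFinitePresentation A.hom] {υ : H ⊗ A ⟶ G}
    (hA : AutFam.RepresentsHom H G A υ) : Smooth A.hom := by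
  refine Locus.smooth_of_formallySmooth _ fun B _ I hI a₀ b hab => ?_
  let T₀ : Over S := Over.mk ((Cocycle.Z I).hom ≫ b)
  let a₀s : T₀ ⟶ A := Over.homMk a₀ hab.symm
  let φ₀ : H ⊗ T₀ ⟶ G := H ◁ a₀s ≫ υ
  have hφ₀ : AutFam.IsHomFamily H G φ₀ := fun X g₁ g₂ t => by
    simp only [φ₀, lift_whiskerLeft_assoc]
    exact hA.1 X g₁ g₂ _
  haveI hG' : Smooth (Red.bc b G).hom := MorphismProperty.pullback_snd G.hom b ‹_›
  let W : Over (Spec (CommRingCat.of B)) := Red.bc b H ⊗ Cocycle.Z I
  let pW : Over.mk (W.hom ≫ b) ⟶ T₀ := Over.homMk (snd (Red.bc b H) (Cocycle.Z I)).left (by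
    show _ ≫ (Cocycle.Z I).hom ≫ b = W.hom ≫ b
    rw [← Category.assoc, Over.w (snd (Red.bc b H) (Cocycle.Z I))])
  let f₀ : Red.bc b H ⊗ Cocycle.Z I ⟶ Red.bc b G :=
    NilAction.ofBase b (lift (NilAction.toBase b (fst (Red.bc b H) (Cocycle.Z I))) pW ≫ φ₀)
  have hlift : ∀ (Y : Over (Spec (CommRingCat.of B))) (a : Y ⟶ Red.bc b H) (p : Y ⟶ Cocycle.Z I),
      lift a p ≫ f₀ = NilAction.ofBase b (lift (NilAction.toBase b a)
        (Over.homMk p.left (by
          show p.left ≫ (Cocycle.Z I).hom ≫ b = Y.hom ≫ b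
          rw [← Category.assoc, Over.w p]) : Over.mk (Y.hom ≫ b) ⟶ T₀) ≫ φ₀) := by
    intro Y a p
    rw [Locus.comp_ofBase, ← Category.assoc, comp_lift]
    congr 3
    · apply Over.OverMorphism.ext
      show (lift a p).left ≫ (fst (Red.bc b H) (Cocycle.Z I)).left ≫ pullback.fst H.hom b = a.left ≫ pullback.fst H.hom b
      rw [← Category.assoc, ← Over.comp_left, lift_fst]
    · apply Over.OverMorphism.ext
      show (lift a p).left ≫ (snd (Red.bc b H) (Cocycle.Z I)).left = p.left
      rw [← Over.comp_left, lift_snd]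
  have hmul : HomSmooth.MulOn f₀ := fun Y p x y => by
    rw [hlift, hlift, hlift, NilAction.toBase_mul, hφ₀, Locus.ofBase_mul]
  obtain ⟨φ, hφmon, hφ⟩ := HomSmooth.exists_hom_lift_smooth (Locus.locally_bc hH b) ⟨2, hI⟩ f₀ hmul
  obtain ⟨l, hl, -⟩ := hA.2 _ (famOfHom b φ) (isHomFamily_famOfHom b φ)
  refine ⟨l.left, ?_, Over.w l⟩
  let zb : T₀ ⟶ Over.mk b := Over.homMk (Cocycle.Z I).hom rfl
  have h4 : H ◁ (zb ≫ l) ≫ υ = φ₀ := by
    rw [whiskerLeft_comp, Category.assoc, hl]
    let X : Over S := H ⊗ T₀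
    let Y : Over (Spec (CommRingCat.of B)) := Over.mk ((snd H T₀).left ≫ (Cocycle.Z I).hom)
    let e : Over.mk (Y.hom ≫ b) ⟶ X := Over.homMk (𝟙 _) (by
      show 𝟙 _ ≫ X.hom = ((snd H T₀).left ≫ (Cocycle.Z I).hom) ≫ b
      rw [Category.id_comp, Category.assoc]; exact (Over.w (snd H T₀)).symm)
    have : IsIso e := by
      have : IsIso e.left := inferInstanceAs (IsIso (𝟙 _))
      have : IsIso ((Over.forget S).map e) := this
      exact isIso_of_reflects_iso _ (Over.forget S)
    let q : Y ⟶ Cocycle.Z I := Over.homMk (snd H T₀).left rfl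
    let g' : Y ⟶ Red.bc b H := NilAction.ofBase b (e ≫ fst H T₀)
    rw [← cancel_epi e]
    have h1 : e ≫ H ◁ zb ≫ famOfHom b φ = NilAction.toBase b (g' ≫ φ) := by
      rw [← lift_famOfHom b φ (e ≫ fst H T₀), ← Category.assoc]
      congr 1
    have h2 : g' ≫ φ = lift g' q ≫ f₀ := by rw [← hφ, lift_fst_assoc]
    rw [h1, h2, hlift, NilAction.toBase_ofBase, NilAction.toBase_ofBase]
    refine congrArg (· ≫ φ₀) ?_
    refine CartesianMonoidalCategory.hom_ext _ _ (lift_fst _ _) ?_
    rw [lift_snd]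
    exact Over.OverMorphism.ext (Category.id_comp _).symm
  have h5 : zb ≫ l = a₀s := (hA.2 _ φ₀ hφ₀).unique h4 rfl
  exact congrArg (fun m => m.left) h5

end Groth.L25.SplitHom
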