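import Groth.Agent.L25.SplitHom.Coeff
import Groth.Agent.L25.HomScheme.ChartHom
import Groth.Agent.L25.HomScheme.HomFam
import Groth.Agent.L25.Bridge.Lift

/-!
# Families of homomorphisms from a split group to an affine group over a chart
-/

set_option autoImplicit false
universe u

open CategoryTheory CategoryTheory.Limits MonoidalCategory CartesianMonoidalCategory
open AlgebraicGeometry WithConv TensorProduct
open scoped MonObj

set_option backward.isDefEq.respectTransparency.types false

noncomputable section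

namespace Groth.L25.SplitHom

open Groth.L25.Cocycle Groth.L25.HomScheme

/-- the points of an affine group over a chart are the characters of its Hopf algebra -/
structure GChart {S : Scheme.{u}} {R : Type u} [CommRing R] (j : Spec (CommRingCat.of R) ⟶ S) (G : Over S)
    [GrpObj G] (A : Type u) [CommRing A] [Bialgebra R A] where
  pt : ∀ {C : Type u} [CommRing C] [Algebra R C], (A →ₐ[R] C) → (Cocycle.X j C ⟶ G)
  pt_mul : ∀ {C : Type u} [CommRing C] [Algebra R C] (f g : WithConv (A →ₐ[R] C)),
    pt (f * g).ofConv = pt f.ofConv * pt g.ofConv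
  bij : ∀ (C : Type u) [CommRing C] [Algebra R C], Function.Bijective (pt : (A →ₐ[R] C) → (Cocycle.X j C ⟶ G))
  nat : ∀ {C D : Type u} [CommRing C] [Algebra R C] [CommRing D] [Algebra R D] (h : C →ₐ[R] D)
    (f : A →ₐ[R] C), Cocycle.mor j h ≫ pt f = pt (h.comp f)

section Build

variable {R : Type u} [CommRing R] {A : Type u} [CommRing A] [HopfAlgebra R A] {C : Type u} [CommRing C]
  [Algebra R C]

/-- `Spec C` over `Spec R` -/
abbrev Y (R C : Type u) [CommRing R] [CommRing C] [Algebra R C] : Over (Spec (CommRingCat.of R)) :=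
  Over.mk (Spec.map (CommRingCat.ofHom (algebraMap R C)))

/-- an algebra map as a point of the affine group -/
def ptP (f : A →ₐ[R] C) : Y R C ⟶ Bridge.P R A :=
  Over.homMk (Spec.map (CommRingCat.ofHom f.toRingHom)) (by
    show Spec.map _ ≫ Spec.map _ = Spec.map _
    rw [← Spec.map_comp, ← CommRingCat.ofHom_comp]
    exact congrArg (fun φ : R →+* C => Spec.map (CommRingCat.ofHom φ)) f.comp_algebraMap)

theorem ptP_bijective : Function.Bijective (ptP (R := R) (A := A) (C := C)) := by
  constructor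
  · intro f g h
    refine AlgHom.ext fun a => ?_
    have h1 : CommRingCat.ofHom f.toRingHom = CommRingCat.ofHom g.toRingHom :=
      Spec.map_injective (congrArg (fun m => m.left) h)
    exact congrArg (fun q : CommRingCat.of A ⟶ CommRingCat.of C => q.hom a) h1
  · intro φ
    obtain ⟨ψ, hψ⟩ := Spec.map_surjective φ.left
    have hc : CommRingCat.ofHom (algebraMap R A) ≫ ψ = CommRingCat.ofHom (algebraMap R C) := by
      apply Spec.map_injective
      rw [Spec.map_comp, hψ]
      exact Over.w φ
    exact ⟨{ ψ.hom with commutes' := fun r => congrArg (fun q => q.hom r) hc }, Over.OverMorphism.ext hψ⟩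

theorem ptP_mul (f g : WithConv (A →ₐ[R] C)) :
    ptP (f * g).ofConv = ptP f.ofConv * ptP g.ofConv := by
  let P := Bridge.P R A
  apply Over.OverMorphism.ext
  show Spec.map (CommRingCat.ofHom (f * g).ofConv.toRingHom) =
    (lift (ptP f.ofConv) (ptP g.ofConv) ≫ μ[P]).left
  have hl : (lift (ptP f.ofConv) (ptP g.ofConv)).left ≫ (pullbackSpecIso R A A).hom =
      Spec.map (CommRingCat.ofHom
        (Algebra.TensorProduct.lift f.ofConv g.ofConv fun _ _ => Commute.all _ _).toRingHom) := by
    rw [← Iso.eq_comp_inv]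
    apply pullback.hom_ext
    · refine (congrArg (fun m => m.left) (lift_fst (ptP f.ofConv) (ptP g.ofConv))).trans ?_
      refine Eq.trans ?_ (Category.assoc _ _ _).symm
      refine Eq.trans ?_ (congrArg (Spec.map _ ≫ ·) (pullbackSpecIso_inv_fst R A A)).symm
      rw [← Spec.map_comp]
      refine congrArg Spec.map (CommRingCat.hom_ext (RingHom.ext fun a => ?_))
      show f.ofConv a = Algebra.TensorProduct.lift f.ofConv g.ofConv (fun _ _ => Commute.all _ _) (a ⊗ₜ 1)
      simp
    · refine (congrArg (fun m => m.left) (lift_snd (ptP f.ofConv) (ptP g.ofConv))).trans ?_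
      refine Eq.trans ?_ (Category.assoc _ _ _).symm
      refine Eq.trans ?_ (congrArg (Spec.map _ ≫ ·) (pullbackSpecIso_inv_snd R A A)).symm
      rw [← Spec.map_comp]
      refine congrArg Spec.map (CommRingCat.hom_ext (RingHom.ext fun a => ?_))
      show g.ofConv a = Algebra.TensorProduct.lift f.ofConv g.ofConv (fun _ _ => Commute.all _ _) (1 ⊗ₜ a)
      simp
  rw [Over.comp_left]
  change _ = (lift (ptP f.ofConv) (ptP g.ofConv)).left ≫ (μ[(Spec (CommRingCat.of A)).asOver (Spec (CommRingCat.of R))]).left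
  rw [mul_spec_asOver_spec_left]
  refine Eq.trans ?_ (Category.assoc _ _ _)
  refine Eq.trans ?_ (congrArg (· ≫ Spec.map (CommRingCat.ofHom (Bialgebra.comulAlgHom R A).toRingHom)) hl).symm
  rw [← Spec.map_comp]
  refine congrArg Spec.map (CommRingCat.hom_ext (RingHom.ext fun a => ?_))
  exact AlgHom.convMul_apply f g a

/-- an algebra map between spectra over the base -/
def homY {D : Type u} [CommRing D] [Algebra R D] (h : C →ₐ[R] D) : Y R D ⟶ Y R C :=
  Over.homMk (Spec.map (CommRingCat.ofHom h.toRingHom)) (by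
    show Spec.map _ ≫ Spec.map _ = Spec.map _
    rw [← Spec.map_comp, ← CommRingCat.ofHom_comp]
    exact congrArg (fun φ : R →+* D => Spec.map (CommRingCat.ofHom φ)) h.comp_algebraMap)

theorem homY_ptP {D : Type u} [CommRing D] [Algebra R D] (h : C →ₐ[R] D) (f : A →ₐ[R] C) :
    homY h ≫ ptP f = ptP (h.comp f) := by
  apply Over.OverMorphism.ext
  show Spec.map _ ≫ Spec.map _ = Spec.map _
  rw [← Spec.map_comp, ← CommRingCat.ofHom_comp]
  rfl

theorem mor_toBase {S : Scheme.{u}} (j : Spec (CommRingCat.of R) ⟶ S) {G : Over S} {D : Type u} [CommRing D]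
    [Algebra R D] (h : C →ₐ[R] D) (x : Y R C ⟶ Red.bc j G) :
    Cocycle.mor j h ≫ NilAction.toBase j x = NilAction.toBase j (homY h ≫ x) := by
  apply Over.OverMorphism.ext
  exact (Category.assoc (Spec.map (CommRingCat.ofHom h.toRingHom)) x.left (pullback.fst G.hom j)).symm

variable {S : Scheme.{u}} {j : Spec (CommRingCat.of R) ⟶ S} {G : Over S} [GrpObj G]

/-- the chart given by an isomorphism with an affine group -/
def chartOfIso (e : Grp.mk (Red.bc j G) ≅ Grp.mk (Bridge.P R A)) : GChart j G A where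
  pt {C} _ _ f := NilAction.toBase j (ptP f ≫ e.inv.hom.hom)
  pt_mul {C} _ _ f g := by
    rw [ptP_mul, MonObj.mul_comp (ptP f.ofConv) (ptP g.ofConv) e.inv.hom.hom, NilAction.toBase_mul]
  bij C _ _ := by
    constructor
    · intro f g h
      have h1 := congrArg (fun z => NilAction.ofBase j (Y := Y R C) z ≫ e.hom.hom.hom) h
      simp only [NilAction.ofBase_toBase, Category.assoc,
        show e.inv.hom.hom ≫ e.hom.hom.hom = 𝟙 _ from congr($(e.inv_hom_id).hom.hom)] at h1
      exact ptP_bijective.1 ((Category.comp_id _).symm.trans (h1.trans (Category.comp_id _)))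
    · intro x
      have h2 : e.hom.hom.hom ≫ e.inv.hom.hom = 𝟙 (Red.bc j G) := congr($(e.hom_inv_id).hom.hom)
      let z : Y R C ⟶ Red.bc j G := NilAction.ofBase j x
      obtain ⟨f, hf⟩ := ptP_bijective.2 (z ≫ e.hom.hom.hom)
      have h3 : ptP f ≫ e.inv.hom.hom = z := by
        rw [hf]
        exact (Category.assoc _ _ _).trans ((congrArg (z ≫ ·) h2).trans (Category.comp_id z))
      exact ⟨f, (congrArg (NilAction.toBase j) h3).trans (NilAction.toBase_ofBase (Y := Y R C) j x)⟩
  nat {C D} _ _ _ _ h f := by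
    rw [mor_toBase, ← Category.assoc, homY_ptP]

/-- an affine group has a chart -/
theorem exists_gchart (G : Over S) [GrpObj G] [IsAffineHom G.hom] (j : Spec (CommRingCat.of R) ⟶ S) :
    ∃ (A : Type u) (_ : CommRing A) (_ : HopfAlgebra R A) (_ : GChart j G A),
      Nonempty (Grp.mk (Red.bc j G) ≅ Grp.mk (Bridge.P R A)) := by
  have : IsAffineHom (Red.bc j G).hom := MorphismProperty.pullback_snd _ _ ‹IsAffineHom G.hom›
  have : IsAffine (Red.bc j G).left := isAffine_of_isAffineHom (Red.bc j G).hom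
  obtain ⟨A, _, _, ⟨e⟩⟩ := Bridge.exists_hopf (Red.bc j G)
  exact ⟨A, inferInstance, inferInstance, chartOfIso e, ⟨e⟩⟩

end Build

section Families

variable {S : Scheme.{u}} {R : Type u} [CommRing R] {j : Spec (CommRingCat.of R) ⟶ S} {H G : Over S}
  [GrpObj H] [GrpObj G] {M : Type} [CommGroup M] (e : Chart j H M)
  {A : Type u} [CommRing A] [Bialgebra R A] (g : GChart j G A)
  {C D : Type u} [CommRing C] [Algebra R C] [CommRing D] [Algebra R D]

theorem GChart.pt_one : g.pt (1 : WithConv (A →ₐ[R] C)).ofConv = 1 := by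
  have h := g.pt_mul (C := C) 1 1
  rw [_root_.one_mul] at h
  exact left_eq_mul.1 h

/-- the specialisation of the universal point at a character -/
def charMap (h : C →ₐ[R] D) (χ : M →* D) : MonoidAlgebra C M →ₐ[R] D :=
  MonoidAlgebra.liftNCAlgHom h χ fun _ _ => Commute.all _ _

theorem charMap_single (h : C →ₐ[R] D) (χ : M →* D) (m : M) (c : C) :
    charMap h χ (MonoidAlgebra.single m c) = h c * χ m := by
  simp [charMap, MonoidAlgebra.liftNCAlgHom, MonoidAlgebra.liftNCRingHom_single]

theorem charMap_mapM {Q : Type} [CommGroup Q] (h : C →ₐ[R] D) (χ : Q →* D) (f : M →* Q) :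
    (charMap h χ).comp (mapM C f) = charMap h (χ.comp f) := by
  refine AlgHom.ext fun x => ?_
  induction x using MonoidAlgebra.induction_linear with
  | zero => simp
  | add a b ha hb => simp only [map_add, ha, hb]
  | single m c =>
    rw [AlgHom.comp_apply, show mapM (R := R) C f (MonoidAlgebra.single m c) = MonoidAlgebra.single (f m) c from
      MonoidAlgebra.mapDomain_single, charMap_single, charMap_single]
    rfl

theorem charMap_one (h : C →ₐ[R] D) : charMap h (1 : M →* D) = h.comp (aug C) := by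
  refine AlgHom.ext fun x => ?_
  induction x using MonoidAlgebra.induction_linear with
  | zero => simp
  | add a b ha hb => simp only [map_add, ha, hb]
  | single m c => rw [charMap_single]; simp [aug, MonoidAlgebra.lift_single]

theorem mapM_eq_charMap {Q : Type} [CommGroup Q] (f : M →* Q) :
    mapM (R := R) C f = charMap (IsScalarTower.toAlgHom R C (MonoidAlgebra C Q)) ((MonoidAlgebra.of C Q).comp f) := by
  refine AlgHom.ext fun x => ?_
  induction x using MonoidAlgebra.induction_linear with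
  | zero => simp
  | add a b ha hb => simp only [map_add, ha, hb]
  | single m c =>
    rw [show mapM (R := R) C f (MonoidAlgebra.single m c) = MonoidAlgebra.single (f m) c from
      MonoidAlgebra.mapDomain_single, charMap_single]
    simp [MonoidAlgebra.coe_algebraMap, MonoidAlgebra.single_mul_single]

/-- a point of the homomorphisms, as a family -/
def famA [IsAffineHom H.hom] (ψ : A →ₐ[R] MonoidAlgebra C M) : H ⊗ Cocycle.X j C ⟶ G :=
  have := isIso_uPt e C
  inv (uPt e C) ≫ g.pt ψ

theorem uPt_famA [IsAffineHom H.hom] (ψ : A →ₐ[R] MonoidAlgebra C M) : uPt e C ≫ famA e g ψ = g.pt ψ := by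
  have := isIso_uPt e C
  rw [famA, IsIso.hom_inv_id_assoc]

theorem lift_pt_famA [IsAffineHom H.hom] (ψ : A →ₐ[R] MonoidAlgebra C M) (h : C →ₐ[R] D) (χ : M →* D) :
    lift (e.pt χ) (Cocycle.mor j h) ≫ famA e g ψ = g.pt ((charMap h χ).comp ψ) := by
  have := isIso_uPt e C
  rw [famA, lift_pt, Category.assoc, IsIso.hom_inv_id_assoc, g.nat]
  rfl

theorem famA_res [IsAffineHom H.hom] (ψ : A →ₐ[R] MonoidAlgebra C M) (h : C →ₐ[R] D) :
    (H ◁ Cocycle.mor j h) ≫ famA e g ψ = famA e g (push h ψ) := by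
  refine hom_ext_uPt e ?_
  rw [uPt_famA, ← Category.assoc, uPt, lift_whiskerLeft, ← mor_comp, lift_pt_famA]
  congr 1
  refine AlgHom.ext fun a => ?_
  show charMap _ _ (ψ a) = MonoidAlgebra.mapAlgHom M h (ψ a)
  induction ψ a using MonoidAlgebra.induction_linear with
  | zero => simp
  | add a b ha hb => simp only [map_add, ha, hb]
  | single m c =>
    rw [charMap_single]
    simp [MonoidAlgebra.mapAlgHom, MonoidAlgebra.coe_algebraMap, MonoidAlgebra.single_mul_single]

theorem famA_injective [IsAffineHom H.hom] : Function.Injective (famA e g (C := C)) := fun ψ ψ' h => by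
  have h1 := congrArg (uPt e C ≫ ·) h
  simp only [uPt_famA] at h1
  exact (g.bij _).1 h1

theorem exists_famA [IsAffineHom H.hom] (x : H ⊗ Cocycle.X j C ⟶ G) : ∃ ψ, famA e g ψ = x := by
  obtain ⟨ψ, hψ⟩ := (g.bij (MonoidAlgebra C M)).2 (uPt e C ≫ x)
  exact ⟨ψ, hom_ext_uPt e (by rw [uPt_famA, hψ])⟩

theorem isHomFamily_famA [IsAffineHom H.hom] {ψ : A →ₐ[R] MonoidAlgebra C M} (hψ : IsPt ψ) :
    AutFam.IsHomFamily H G (famA e g ψ) := by
  intro Y g₁ g₂ t
  refine Over.OverMorphism.ext (Scheme.Cover.hom_ext Y.left.affineCover _ _ fun i => ?_)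
  let k : Over.mk (Y.left.affineCover.f i ≫ Y.hom) ⟶ Y := Over.homMk (Y.left.affineCover.f i) rfl
  have : IsAffine (Over.mk (Y.left.affineCover.f i ≫ Y.hom)).left :=
    inferInstanceAs (IsAffine (Y.left.affineCover.X i))
  suffices k ≫ lift (g₁ * g₂) t ≫ famA e g ψ =
      k ≫ ((lift g₁ t ≫ famA e g ψ) * (lift g₂ t ≫ famA e g ψ)) from congrArg (fun m => m.left) this
  simp only [MonObj.comp_mul, comp_lift_assoc]
  generalize k ≫ g₁ = a₁, k ≫ g₂ = a₂, k ≫ t = s
  revert a₁ a₂ s this
  generalize Over.mk (Y.left.affineCover.f i ≫ Y.hom) = T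
  intro this a₁ a₂ s
  obtain ⟨φ, hφ⟩ := Spec.map_surjective (T.left.isoSpec.inv ≫ s.left)
  let E : Type u := Γ(T.left, ⊤)
  let : Algebra R E := (φ.hom.comp (algebraMap R C)).toAlgebra
  let h : C →ₐ[R] E := { φ.hom with commutes' := fun _ => rfl }
  let i' : Cocycle.X j E ≅ T := Over.isoMk T.left.isoSpec.symm (by
    show T.left.isoSpec.inv ≫ T.hom = Spec.map (CommRingCat.ofHom (φ.hom.comp (algebraMap R C))) ≫ j
    rw [CommRingCat.ofHom_comp, CommRingCat.ofHom_hom, Spec.map_comp, Category.assoc, hφ, Category.assoc]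
    exact congrArg (T.left.isoSpec.inv ≫ ·) (Over.w s).symm)
  have hs : i'.hom ≫ s = Cocycle.mor j h := Over.OverMorphism.ext hφ.symm
  rw [← cancel_epi i'.hom]
  simp only [MonObj.comp_mul, comp_lift_assoc, hs]
  obtain ⟨χ₁, hχ₁⟩ := (e.bij E).2 (i'.hom ≫ a₁)
  obtain ⟨χ₂, hχ₂⟩ := (e.bij E).2 (i'.hom ≫ a₂)
  rw [← hχ₁, ← hχ₂, ← e.pt_mul, lift_pt_famA, lift_pt_famA, lift_pt_famA]
  let χ : M × M →* E := χ₁.coprod χ₂
  have e0 : χ₁ * χ₂ = χ.comp ((MonoidHom.id M).prod (MonoidHom.id M)) := MonoidHom.ext fun m => rfl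
  rw [e0, show χ₁ = χ.comp (MonoidHom.inl M M) from MonoidHom.ext fun m => by simp [χ],
    show χ₂ = χ.comp (MonoidHom.inr M M) from MonoidHom.ext fun m => by simp [χ],
    ← charMap_mapM, ← charMap_mapM, ← charMap_mapM, ← ofConv_toConv ((charMap h χ).comp (mapM C (MonoidHom.inl M M)) |>.comp ψ),
    ← ofConv_toConv ((charMap h χ).comp (mapM C (MonoidHom.inr M M)) |>.comp ψ), ← g.pt_mul]
  refine congrArg g.pt ?_
  rw [AlgHom.comp_assoc, AlgHom.comp_assoc, AlgHom.comp_assoc]
  have := congrArg (fun z => (charMap h χ).comp z.ofConv) hψ.mul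
  simp only [ofConv_toConv, AlgHom.comp_convMul_distrib] at this
  exact this.symm

theorem isPt_of_isHomFamily [IsAffineHom H.hom] {ψ : A →ₐ[R] MonoidAlgebra C M}
    (hfam : AutFam.IsHomFamily H G (famA e g ψ)) : IsPt ψ := by
  have key : ∀ (D : Type u) [CommRing D] [Algebra R D] (h : C →ₐ[R] D) (χ₁ χ₂ : M →* D),
      toConv ((charMap h (χ₁ * χ₂)).comp ψ) = toConv ((charMap h χ₁).comp ψ) * toConv ((charMap h χ₂).comp ψ) := by
    intro D _ _ h χ₁ χ₂
    apply WithConv.ext
    refine (g.bij D).1 ?_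
    rw [g.pt_mul]
    simp only [ofConv_toConv]
    rw [← lift_pt_famA e g, ← lift_pt_famA e g, ← lift_pt_famA e g, e.pt_mul]
    exact hfam _ _ _ _
  refine ⟨?_, ?_⟩
  · rw [mapM_eq_charMap, mapM_eq_charMap, mapM_eq_charMap, ← key]
    congr 3
    exact MonoidHom.ext fun m => by simp [MonoidAlgebra.single_mul_single]
  · have h1 := key C (AlgHom.id R C) 1 1
    rw [_root_.one_mul, charMap_one, AlgHom.id_comp] at h1
    have h2 : g.pt ((aug C).comp ψ) = 1 := by
      have := congrArg (fun z => g.pt z.ofConv) h1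
      simp only [g.pt_mul, ofConv_toConv] at this
      exact left_eq_mul.1 this
    apply WithConv.ext
    exact (g.bij C).1 (h2.trans (g.pt_one).symm)

end Families

end Groth.L25.SplitHom
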