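import Mathlib.RingTheory.Bialgebra.Convolution
import Mathlib.RingTheory.TensorProduct.Maps
import Mathlib.Algebra.MonoidAlgebra.Basic
import Mathlib.LinearAlgebra.Matrix.Adjugate
import Groth.Agent.L25.Cocycle.Local

/-!
# Homomorphisms from split diagonalisable groups to affine groups, through coefficients
-/

set_option autoImplicit false
universe u

open TensorProduct WithConv
open scoped Classical

noncomputable section

namespace Groth.L25.SplitHom

variable {R : Type u} [CommRing R] {A : Type u} [CommRing A] [Bialgebra R A] {M : Type} [CommGroup M]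
  {C : Type u} [CommRing C] [Algebra R C] {D : Type u} [CommRing D] [Algebra R D]

/-- the map of group algebras attached to a map of groups -/
abbrev mapM (C : Type u) [CommRing C] [Algebra R C] {P Q : Type} [CommGroup P] [CommGroup Q] (f : P →* Q) :
    MonoidAlgebra C P →ₐ[R] MonoidAlgebra C Q :=
  MonoidAlgebra.mapDomainAlgHom R C f

/-- the sum of the coefficients -/
def aug (C : Type u) [CommRing C] [Algebra R C] : MonoidAlgebra C M →ₐ[R] C :=
  ((MonoidAlgebra.lift C C M) 1).restrictScalars R

theorem aug_apply (x : MonoidAlgebra C M) : aug (R := R) C x = x.coeff.sum fun _ c => c := by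
  show MonoidAlgebra.lift C C M 1 x = _
  rw [MonoidAlgebra.lift_apply]
  simp

theorem aug_eq_sum (x : MonoidAlgebra C M) {G : Finset M} (h : ∀ m ∉ G, x.coeff m = 0) :
    aug (R := R) C x = ∑ m ∈ G, x.coeff m := by
  rw [aug_apply, Finsupp.sum]
  refine Finset.sum_subset (fun m hm => ?_) fun m _ hm => by simpa using hm
  by_contra hG
  exact (Finsupp.mem_support_iff.1 hm) (h m hG)

/-- `ψ` is a point of the homomorphisms from the split group of `M` to the group of `A`. -/
structure IsPt (ψ : A →ₐ[R] MonoidAlgebra C M) : Prop where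
  mul : toConv ((mapM C (MonoidHom.inl M M)).comp ψ) * toConv ((mapM C (MonoidHom.inr M M)).comp ψ) =
    toConv ((mapM C ((MonoidHom.id M).prod (MonoidHom.id M))).comp ψ)
  one : toConv ((aug C).comp ψ) = 1

/-- extension of scalars of a point -/
def push (h : C →ₐ[R] D) (ψ : A →ₐ[R] MonoidAlgebra C M) : A →ₐ[R] MonoidAlgebra D M :=
  (MonoidAlgebra.mapAlgHom M h).comp ψ

theorem coeff_push (h : C →ₐ[R] D) (ψ : A →ₐ[R] MonoidAlgebra C M) (a : A) (m : M) :
    (push h ψ a).coeff m = h ((ψ a).coeff m) :=
  MonoidAlgebra.coeff_mapAlgHom h (ψ a) m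

theorem mapAlgHom_mapM (h : C →ₐ[R] D) {P Q : Type} [CommGroup P] [CommGroup Q] (f : P →* Q)
    (x : MonoidAlgebra C P) :
    MonoidAlgebra.mapAlgHom Q h (mapM (R := R) C f x) = mapM (R := R) D f (MonoidAlgebra.mapAlgHom P h x) := by
  induction x using MonoidAlgebra.induction_linear with
  | zero => simp
  | add a b ha hb => simp only [map_add, ha, hb]
  | single m c => simp [MonoidAlgebra.mapAlgHom, mapM, MonoidAlgebra.mapDomain_single]

theorem aug_mapAlgHom (h : C →ₐ[R] D) (x : MonoidAlgebra C M) :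
    h (aug (R := R) C x) = aug (R := R) D (MonoidAlgebra.mapAlgHom M h x) := by
  induction x using MonoidAlgebra.induction_linear with
  | zero => simp
  | add a b ha hb => simp only [map_add, ha, hb]
  | single m c => simp [aug, MonoidAlgebra.mapAlgHom, MonoidAlgebra.lift_single]

theorem IsPt.push {ψ : A →ₐ[R] MonoidAlgebra C M} (hψ : IsPt ψ) (h : C →ₐ[R] D) : IsPt (push h ψ) where
  mul := by
    have e : ∀ {Q : Type} [CommGroup Q] (f : M →* Q),
        (mapM D f).comp (SplitHom.push h ψ) = (MonoidAlgebra.mapAlgHom Q h).comp ((mapM C f).comp ψ) := fun f =>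
      AlgHom.ext fun a => (mapAlgHom_mapM h f (ψ a)).symm
    rw [e, e, e, ← toConv_ofConv (_ * _)]
    congr 1
    have := congrArg (fun z => (MonoidAlgebra.mapAlgHom (M × M) h).comp z.ofConv) hψ.mul
    simpa only [AlgHom.comp_convMul_distrib, ofConv_toConv] using this
  one := by
    have e : (aug D).comp (SplitHom.push h ψ) = h.comp ((aug C).comp ψ) :=
      AlgHom.ext fun a => (aug_mapAlgHom h (ψ a)).symm
    rw [e, show (aug C).comp ψ = (1 : WithConv (A →ₐ[R] C)).ofConv from congrArg ofConv hψ.one]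
    refine WithConv.ext (AlgHom.ext fun a => ?_)
    show h (algebraMap R C (Coalgebra.counit a)) = algebraMap R D (Coalgebra.counit a)
    rw [h.commutes]

/-- the pairing of two coefficients, on a decomposition of the comultiplication -/
theorem coeff_mul_apply (f g : A →ₐ[R] MonoidAlgebra C M) (a : A) {ι : Type*} (s : Finset ι) (p q : ι → A)
    (hpq : Coalgebra.comul (R := R) a = ∑ t ∈ s, p t ⊗ₜ[R] q t) (m m' : M) :
    ((toConv ((mapM C (MonoidHom.inl M M)).comp f) * toConv ((mapM C (MonoidHom.inr M M)).comp g)) a).coeff (m, m') =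
      ∑ t ∈ s, (f (p t)).coeff m * (g (q t)).coeff m' := by
  rw [AlgHom.convMul_apply, hpq, map_sum, MonoidAlgebra.coeff_sum, Finset.sum_apply']
  refine Finset.sum_congr rfl fun t _ => ?_
  rw [Algebra.TensorProduct.lift_tmul]
  exact Cocycle.coeff_pair (f (p t)) (g (q t)) m m'

theorem coeff_diag (x : MonoidAlgebra C M) (m m' : M) :
    (mapM (R := R) C ((MonoidHom.id M).prod (MonoidHom.id M)) x).coeff (m, m') = if m = m' then x.coeff m else 0 := by
  induction x using MonoidAlgebra.induction_linear with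
  | zero => simp
  | add a b ha hb => simp only [map_add, MonoidAlgebra.coeff_add, Finsupp.add_apply, ha, hb]; split_ifs <;> simp
  | single n c =>
    rw [show mapM (R := R) C ((MonoidHom.id M).prod (MonoidHom.id M)) (MonoidAlgebra.single n c) =
      MonoidAlgebra.single (n, n) c from MonoidAlgebra.mapDomain_single]
    simp only [MonoidAlgebra.coeff_single, Finsupp.single_apply, Prod.mk.injEq]
    by_cases h1 : n = m
    · subst h1
      by_cases h2 : n = m' <;> simp [h2]
    · simp [h1]

/-- the equations on coefficients -/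
theorem IsPt.coeff_eq {ψ : A →ₐ[R] MonoidAlgebra C M} (hψ : IsPt ψ) (a : A) {ι : Type*} (s : Finset ι)
    (p q : ι → A) (hpq : Coalgebra.comul (R := R) a = ∑ t ∈ s, p t ⊗ₜ[R] q t) (m m' : M) :
    ∑ t ∈ s, (ψ (p t)).coeff m * (ψ (q t)).coeff m' = if m = m' then (ψ a).coeff m else 0 := by
  rw [← coeff_mul_apply ψ ψ a s p q hpq, hψ.mul, ← coeff_diag (R := R)]
  rfl

theorem IsPt.sum_eq {ψ : A →ₐ[R] MonoidAlgebra C M} (hψ : IsPt ψ) (a : A) {G : Finset M}
    (h : ∀ m ∉ G, (ψ a).coeff m = 0) :
    ∑ m ∈ G, (ψ a).coeff m = algebraMap R C (Coalgebra.counit a) := by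
  rw [← aug_eq_sum (R := R) (ψ a) h]
  exact DFunLike.congr_fun (congrArg ofConv hψ.one) a

/-- A finite family spanning a subspace stable under comultiplication, generating the algebra. -/
structure Datum (R : Type u) [CommRing R] (A : Type u) [CommRing A] [Bialgebra R A] where
  n : ℕ
  v : Fin n → A
  b : Fin n → Fin n → A
  comul_v : ∀ i, Coalgebra.comul (R := R) (v i) = ∑ k, v k ⊗ₜ[R] b i k
  adjoin_v : Algebra.adjoin R (Set.range v) = ⊤

variable (d : Datum R A)

/-- the matrix cutting out the coefficients outside `F` -/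
def Datum.mat (F : Finset M) (ψ : A →ₐ[R] MonoidAlgebra C M) : Matrix (Fin d.n) (Fin d.n) C :=
  Matrix.of fun i k => (if i = k then 1 else 0) - algebraMap R C (Coalgebra.counit (d.b i k)) +
    ∑ m ∈ F, (ψ (d.b i k)).coeff m

/-- the determinant kills the coefficients outside `F` -/
theorem Datum.det_mul_coeff {ψ : A →ₐ[R] MonoidAlgebra C M} (hψ : IsPt ψ) (F : Finset M) {m : M} (hm : m ∉ F)
    (i : Fin d.n) : (d.mat F ψ).det * (ψ (d.v i)).coeff m = 0 := by
  let w : Fin d.n → C := fun k => (ψ (d.v k)).coeff m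
  have heq : ∀ i m', ∑ k, (ψ (d.v k)).coeff m * (ψ (d.b i k)).coeff m' = if m = m' then w i else 0 :=
    fun i m' => hψ.coeff_eq (d.v i) Finset.univ d.v (d.b i) (d.comul_v i) m m'
  have hw : Matrix.mulVec (d.mat F ψ) w = 0 := by
    funext i
    let G : Finset M := insert m (Finset.univ.biUnion fun k => (ψ (d.b i k)).coeff.support)
    have h1 : ∑ k, algebraMap R C (Coalgebra.counit (d.b i k)) * w k = w i := by
      calc ∑ k, algebraMap R C (Coalgebra.counit (d.b i k)) * w k
          = ∑ k, ∑ m' ∈ G, w k * (ψ (d.b i k)).coeff m' := by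
            refine Finset.sum_congr rfl fun k _ => ?_
            rw [← hψ.sum_eq (d.b i k) (G := G) fun x hx => ?_, Finset.sum_mul]
            · exact Finset.sum_congr rfl fun _ _ => mul_comm _ _
            · by_contra hne
              exact hx (Finset.mem_insert_of_mem (Finset.mem_biUnion.2
                ⟨k, Finset.mem_univ _, Finsupp.mem_support_iff.2 hne⟩))
        _ = ∑ m' ∈ G, ∑ k, w k * (ψ (d.b i k)).coeff m' := Finset.sum_comm
        _ = w i := by
            simp only [w] at heq ⊢
            simp only [heq]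
            rw [Finset.sum_ite_eq, if_pos (Finset.mem_insert_self _ _)]
    have h2 : ∑ k, (∑ m' ∈ F, (ψ (d.b i k)).coeff m') * w k = 0 := by
      calc ∑ k, (∑ m' ∈ F, (ψ (d.b i k)).coeff m') * w k
          = ∑ k, ∑ m' ∈ F, w k * (ψ (d.b i k)).coeff m' :=
            Finset.sum_congr rfl fun k _ => by
              rw [Finset.sum_mul]
              exact Finset.sum_congr rfl fun _ _ => mul_comm _ _
        _ = ∑ m' ∈ F, ∑ k, w k * (ψ (d.b i k)).coeff m' := Finset.sum_comm
        _ = 0 := Finset.sum_eq_zero fun m' hm' => by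
            simp only [w] at heq ⊢
            rw [heq, if_neg]
            exact fun h => hm (h ▸ hm')
    simp only [Matrix.mulVec, dotProduct, Datum.mat, Matrix.of_apply, add_mul, sub_mul, Finset.sum_add_distrib,
      Finset.sum_sub_distrib, h1, h2, ite_mul, one_mul, zero_mul, Finset.sum_ite_eq, Finset.mem_univ, if_true,
      sub_self, add_zero, Pi.zero_apply]
  have h3 := congrArg (Matrix.mulVec (d.mat F ψ).adjugate) hw
  rw [Matrix.mulVec_mulVec, Matrix.adjugate_mul, Matrix.smul_mulVec, Matrix.one_mulVec, Matrix.mulVec_zero] at h3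
  exact congrFun h3 i

/-- for large `F` the determinant is one -/
theorem Datum.det_mat_eq_one {ψ : A →ₐ[R] MonoidAlgebra C M} (hψ : IsPt ψ) {F : Finset M}
    (h : ∀ i k, ∀ m ∉ F, (ψ (d.b i k)).coeff m = 0) : (d.mat F ψ).det = 1 := by
  have : d.mat F ψ = 1 := by
    ext i k
    simp only [Datum.mat, Matrix.of_apply, hψ.sum_eq (d.b i k) (h i k), sub_add_cancel, Matrix.one_apply]
  rw [this, Matrix.det_one]

theorem Datum.mat_push (h : C →ₐ[R] D) (F : Finset M) (ψ : A →ₐ[R] MonoidAlgebra C M) :
    (d.mat F (SplitHom.push h ψ)).det = h (d.mat F ψ).det := by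
  rw [AlgHom.map_det]
  congr 1
  ext i k
  simp [Datum.mat, coeff_push, map_sum, AlgHom.mapMatrix_apply]

theorem pt_ext {X : Type u} [CommRing X] [Algebra R X]
    {f g : A →ₐ[R] X} (h : ∀ i, f (d.v i) = g (d.v i)) : f = g :=
  AlgHom.ext_of_adjoin_eq_top d.adjoin_v fun _ hx => by
    obtain ⟨i, rfl⟩ := hx
    exact h i

end Groth.L25.SplitHom
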