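import Groth.Agent.L25.SplitHom.Universal
import Mathlib.RingTheory.FinitePresentation
import Mathlib.RingTheory.Localization.Finiteness
import Mathlib.RingTheory.RingHom.FinitePresentation

/-!
# The pieces of the universal coefficient ring are finitely presented
-/

set_option autoImplicit false
universe u

open TensorProduct WithConv
open scoped Classical

noncomputable section

namespace Groth.L25.SplitHom

variable {R : Type u} [CommRing R] {A : Type u} [CommRing A] [Bialgebra R A] {M : Type} [CommGroup M]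

/-- the ideal of all coefficients of a finite set of elements -/
def coeffIdeal {C : Type u} [CommRing C] {Q : Type} (s : Finset (MonoidAlgebra C Q)) : Ideal C :=
  Ideal.span ↑(s.biUnion fun z => z.coeff.support.image z.coeff)

theorem coeffIdeal_fg {C : Type u} [CommRing C] {Q : Type} (s : Finset (MonoidAlgebra C Q)) :
    (coeffIdeal s).FG := ⟨_, rfl⟩

theorem coeff_mem_coeffIdeal {C : Type u} [CommRing C] {Q : Type} {s : Finset (MonoidAlgebra C Q)}
    {z : MonoidAlgebra C Q} (hz : z ∈ s) (q : Q) : z.coeff q ∈ coeffIdeal s := by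
  by_cases h : q ∈ z.coeff.support
  · exact Ideal.subset_span (Finset.mem_biUnion.2 ⟨z, hz, Finset.mem_image.2 ⟨q, h, rfl⟩⟩)
  · rw [Finsupp.notMem_support_iff.1 h]
    exact zero_mem _

theorem coeffIdeal_le_iff {C D : Type u} [CommRing C] [CommRing D] [Algebra R C] [Algebra R D] {Q : Type}
    [CommGroup Q] {s : Finset (MonoidAlgebra C Q)} (h : C →ₐ[R] D) :
    coeffIdeal s ≤ RingHom.ker h ↔ ∀ z ∈ s, MonoidAlgebra.mapAlgHom Q h z = 0 := by
  constructor
  · intro hle z hz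
    refine MonoidAlgebra.coeff_injective (Finsupp.ext fun q => ?_)
    rw [MonoidAlgebra.coeff_mapAlgHom, MonoidAlgebra.coeff_zero, Finsupp.zero_apply]
    exact hle (coeff_mem_coeffIdeal hz q)
  · intro hz
    refine Ideal.span_le.2 fun c hc => ?_
    obtain ⟨z, hz', hc'⟩ := Finset.mem_biUnion.1 hc
    obtain ⟨q, -, rfl⟩ := Finset.mem_image.1 hc'
    show h (z.coeff q) = 0
    rw [← MonoidAlgebra.coeff_mapAlgHom, hz z hz', MonoidAlgebra.coeff_zero, Finsupp.zero_apply]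

variable {C : Type u} [CommRing C] [Algebra R C] {D : Type u} [CommRing D] [Algebra R D]

/-- the failure of multiplicativity at an element -/
def mulDefect (ψ : A →ₐ[R] MonoidAlgebra C M) (a : A) : MonoidAlgebra C (M × M) :=
  (toConv ((mapM C (MonoidHom.inl M M)).comp ψ) * toConv ((mapM C (MonoidHom.inr M M)).comp ψ)) a -
    mapM (R := R) C ((MonoidHom.id M).prod (MonoidHom.id M)) (ψ a)

theorem mapAlgHom_mulDefect (h : C →ₐ[R] D) (ψ : A →ₐ[R] MonoidAlgebra C M) (a : A) :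
    MonoidAlgebra.mapAlgHom (M × M) h (mulDefect ψ a) = mulDefect (push h ψ) a := by
  have e : ∀ {Q : Type} [CommGroup Q] (f : M →* Q),
      (mapM D f).comp (push h ψ) = (MonoidAlgebra.mapAlgHom Q h).comp ((mapM C f).comp ψ) := fun f =>
    AlgHom.ext fun a => (mapAlgHom_mapM h f (ψ a)).symm
  rw [mulDefect, mulDefect, map_sub, mapAlgHom_mapM, e, e]
  congr 1
  exact DFunLike.congr_fun (AlgHom.comp_convMul_distrib (MonoidAlgebra.mapAlgHom (M × M) h)
    (toConv ((mapM C (MonoidHom.inl M M)).comp ψ)) (toConv ((mapM C (MonoidHom.inr M M)).comp ψ))) a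

theorem mulDefect_eq_zero {ψ : A →ₐ[R] MonoidAlgebra C M} (hψ : IsPt ψ) (a : A) : mulDefect ψ a = 0 := by
  rw [mulDefect, hψ.mul, sub_eq_zero]
  rfl

/-- the failure of the unit at an element -/
def oneDefect (ψ : A →ₐ[R] MonoidAlgebra C M) (a : A) : C :=
  aug (R := R) C (ψ a) - algebraMap R C (Coalgebra.counit a)

theorem map_oneDefect (h : C →ₐ[R] D) (ψ : A →ₐ[R] MonoidAlgebra C M) (a : A) :
    h (oneDefect ψ a) = oneDefect (push h ψ) a := by
  rw [oneDefect, oneDefect, map_sub, AlgHom.commutes, aug_mapAlgHom]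
  rfl

theorem oneDefect_eq_zero {ψ : A →ₐ[R] MonoidAlgebra C M} (hψ : IsPt ψ) (a : A) : oneDefect ψ a = 0 :=
  sub_eq_zero.2 (DFunLike.congr_fun (congrArg ofConv hψ.one) a)

theorem isPt_of_defects (d : Datum R A) {ψ : A →ₐ[R] MonoidAlgebra C M} (h : ∀ i, mulDefect ψ (d.v i) = 0)
    (h' : ∀ i, oneDefect ψ (d.v i) = 0) : IsPt ψ where
  mul := WithConv.ext (pt_ext d fun i => sub_eq_zero.1 (h i))
  one := WithConv.ext (pt_ext d fun i => sub_eq_zero.1 (h' i))

theorem push_push {E : Type u} [CommRing E] [Algebra R E] (h : C →ₐ[R] D) (h' : D →ₐ[R] E)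
    (ψ : A →ₐ[R] MonoidAlgebra C M) : push h' (push h ψ) = push (h'.comp h) ψ :=
  AlgHom.ext fun a => MonoidAlgebra.coeff_injective (Finsupp.ext fun m => by simp [coeff_push])

theorem push_id (ψ : A →ₐ[R] MonoidAlgebra C M) : push (AlgHom.id R C) ψ = ψ :=
  AlgHom.ext fun a => MonoidAlgebra.coeff_injective (Finsupp.ext fun m => by simp [coeff_push])

namespace Datum

variable (d : Datum R A)

theorem coeff_ptU_eq_zero (F : Finset M) (i : Fin d.n) {m : M} (hm : m ∉ F) :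
    (d.ptU F (d.v i)).coeff m = 0 := by
  rw [coeff_ptU]
  exact d.toLu_eq_zero fun C _ _ ψ hψ => by rw [evB_xB, evB_dB]; exact d.det_mul_coeff hψ F hm i

theorem finitePresentation_Lu [Algebra.FinitePresentation R A] (F : Finset M) :
    Algebra.FinitePresentation R (d.Lu F) := by
  let V := MvPolynomial (Fin d.n × {m // m ∈ F}) R
  let Ψ : MvPolynomial (Fin d.n) R →ₐ[R] MonoidAlgebra V M :=
    MvPolynomial.aeval fun i => ∑ m : {m // m ∈ F}, MonoidAlgebra.single m.1 (MvPolynomial.X (i, m) : V)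
  let π : MvPolynomial (Fin d.n) R →ₐ[R] A := MvPolynomial.aeval d.v
  have hπ : Function.Surjective π := by
    rw [← AlgHom.range_eq_top, ← Algebra.adjoin_range_eq_range_aeval, d.adjoin_v]
  obtain ⟨gens, hgens⟩ := Algebra.FinitePresentation.ker_fG_of_surjective π hπ
  replace hgens : Ideal.span (gens : Set (MvPolynomial (Fin d.n) R)) = RingHom.ker π := hgens
  let J₁ : Ideal V := coeffIdeal (gens.image Ψ)
  let q₁ : V →ₐ[R] V ⧸ J₁ := Ideal.Quotient.mkₐ R J₁
  let Φ₁ : MvPolynomial (Fin d.n) R →ₐ[R] MonoidAlgebra (V ⧸ J₁) M := (MonoidAlgebra.mapAlgHom M q₁).comp Ψ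
  have hΦ : RingHom.ker π ≤ RingHom.ker Φ₁ := by
    rw [← hgens, Ideal.span_le]
    intro g hg
    exact (coeffIdeal_le_iff q₁).1 (fun x hx => Ideal.Quotient.eq_zero_iff_mem.2 hx) (Ψ g)
      (Finset.mem_image_of_mem Ψ hg)
  let ψ₁ : A →ₐ[R] MonoidAlgebra (V ⧸ J₁) M :=
    (Ideal.Quotient.liftₐ (RingHom.ker π) Φ₁ fun a ha => hΦ ha).comp
      (Ideal.quotientKerAlgEquivOfSurjective hπ).symm.toAlgHom
  have hψ₁ : ∀ p, ψ₁ (π p) = Φ₁ p := fun p => by
    show Ideal.Quotient.liftₐ (RingHom.ker π) Φ₁ (fun a ha => hΦ ha) ((Ideal.quotientKerAlgEquivOfSurjective hπ).symm (π p)) = _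
    rw [show (Ideal.quotientKerAlgEquivOfSurjective hπ).symm (π p) = Ideal.Quotient.mk _ p from
      (Ideal.quotientKerAlgEquivOfSurjective hπ).symm_apply_eq.2 rfl]
    rfl
  let J₂ : Ideal (V ⧸ J₁) := coeffIdeal (Finset.univ.image fun i => mulDefect ψ₁ (d.v i)) ⊔
    Ideal.span ↑(Finset.univ.image fun i => oneDefect ψ₁ (d.v i))
  have hJ₂ : J₂.FG := Submodule.FG.sup (coeffIdeal_fg _) ⟨_, rfl⟩
  let q₂ : V ⧸ J₁ →ₐ[R] (V ⧸ J₁) ⧸ J₂ := Ideal.Quotient.mkₐ R J₂
  let ψ₂ := push q₂ ψ₁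
  have hψ₂ : IsPt ψ₂ := isPt_of_defects d (fun i => by
      rw [← mapAlgHom_mulDefect]
      exact (coeffIdeal_le_iff q₂).1 (fun x hx => Ideal.Quotient.eq_zero_iff_mem.2 (Ideal.mem_sup_left hx))
        _ (Finset.mem_image.2 ⟨i, Finset.mem_univ _, rfl⟩))
    fun i => by
      rw [← map_oneDefect]
      exact Ideal.Quotient.eq_zero_iff_mem.2
        (Ideal.mem_sup_right (Ideal.subset_span (Finset.mem_image.2 ⟨i, Finset.mem_univ _, rfl⟩)))
  let e := evB ψ₂ hψ₂ (d.dB F)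
  let Q := Localization.Away e
  let q₃ : (V ⧸ J₁) ⧸ J₂ →ₐ[R] Q := IsScalarTower.toAlgHom R _ Q
  have hu : IsUnit (evB (push q₃ ψ₂) (hψ₂.push q₃) (d.dB F)) := by
    rw [evB_push q₃ ψ₂ hψ₂]
    exact IsLocalization.Away.algebraMap_isUnit e
  let f : d.Lu F →ₐ[R] Q := d.liftPt (push q₃ ψ₂) (hψ₂.push q₃) hu
  -- the inverse
  let g₀ : V →ₐ[R] d.Lu F := MvPolynomial.aeval fun p => d.toLu F (xB (d.v p.1) p.2.1)
  have hg₀ : (MonoidAlgebra.mapAlgHom M g₀).comp Ψ = (d.ptU F).comp π :=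
    MvPolynomial.algHom_ext fun i => MonoidAlgebra.coeff_injective (Finsupp.ext fun m => by
      rw [AlgHom.comp_apply, AlgHom.comp_apply, MonoidAlgebra.coeff_mapAlgHom]
      simp only [Ψ, π, MvPolynomial.aeval_X, MonoidAlgebra.coeff_sum, Finsupp.finsetSum_apply,
        MonoidAlgebra.coeff_single]
      by_cases hm : m ∈ F
      · rw [Finset.sum_eq_single ⟨m, hm⟩ (fun x _ hx => Finsupp.single_eq_of_ne fun h => hx (Subtype.ext h.symm))
          (fun h => (h (Finset.mem_univ _)).elim), Finsupp.single_eq_same, coeff_ptU]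
        exact MvPolynomial.aeval_X _ _
      · rw [d.coeff_ptU_eq_zero F i hm, Finset.sum_eq_zero fun x _ => Finsupp.single_eq_of_ne fun h => hm (by rw [h]; exact x.2),
          map_zero])
  have hJ₁ : J₁ ≤ RingHom.ker g₀ := (coeffIdeal_le_iff g₀).2 fun z hz => by
    obtain ⟨g, hg, rfl⟩ := Finset.mem_image.1 hz
    have h1 := DFunLike.congr_fun hg₀ g
    rw [AlgHom.comp_apply, AlgHom.comp_apply] at h1
    rw [h1, show π g = 0 from RingHom.mem_ker.1 (hgens ▸ Ideal.subset_span hg), map_zero]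
  let g₁ : V ⧸ J₁ →ₐ[R] d.Lu F := Ideal.Quotient.liftₐ J₁ g₀ fun x hx => hJ₁ hx
  have hg₁ : push g₁ ψ₁ = d.ptU F := AlgHom.ext fun a => by
    obtain ⟨p, rfl⟩ := hπ a
    refine Eq.trans ?_ (DFunLike.congr_fun hg₀ p)
    refine MonoidAlgebra.coeff_injective (Finsupp.ext fun m => ?_)
    rw [coeff_push, hψ₁]
    show g₁ ((MonoidAlgebra.mapAlgHom M q₁ (Ψ p)).coeff m) = _
    rw [MonoidAlgebra.coeff_mapAlgHom, AlgHom.comp_apply, MonoidAlgebra.coeff_mapAlgHom]
    rfl
  have hJ₂' : J₂ ≤ RingHom.ker g₁ := sup_le ((coeffIdeal_le_iff g₁).2 fun z hz => by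
      obtain ⟨i, -, rfl⟩ := Finset.mem_image.1 hz
      rw [mapAlgHom_mulDefect, hg₁, mulDefect_eq_zero (d.isPt_ptU F)])
    (Ideal.span_le.2 fun x hx => by
      obtain ⟨i, -, rfl⟩ := Finset.mem_image.1 hx
      show g₁ _ = 0
      rw [map_oneDefect, hg₁, oneDefect_eq_zero (d.isPt_ptU F)])
  let g₂ : (V ⧸ J₁) ⧸ J₂ →ₐ[R] d.Lu F := Ideal.Quotient.liftₐ J₂ g₁ fun x hx => hJ₂' hx
  have hg₂ : push g₂ ψ₂ = d.ptU F := by
    rw [push_push, show g₂.comp q₂ = g₁ from AlgHom.ext fun x => rfl, hg₁]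
  have he : g₂ e = d.toLu F (d.dB F) := by
    have h1 : g₂.comp (evB ψ₂ hψ₂) = (AlgHom.id R _).comp (d.toLu F) := by
      rw [d.comp_toLu_eq, ← evB_push g₂ ψ₂ hψ₂]
      simp only [hg₂, push_id]
    exact DFunLike.congr_fun h1 (d.dB F)
  let g : Q →ₐ[R] d.Lu F := IsLocalization.liftAlgHom (M := Submonoid.powers e) (f := g₂) fun y => by
    obtain ⟨k, hk⟩ := y.2
    rw [← hk, map_pow, he]
    exact (d.isUnit_dB F).pow k
  have hgq : ∀ x, g (q₃ x) = g₂ x := fun x => IsLocalization.lift_eq _ x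
  have h1 : g.comp f = AlgHom.id R _ := d.lu_hom_ext fun i m => by
    rw [AlgHom.comp_apply, AlgHom.id_apply, Datum.liftPt_toLu, evB_xB, coeff_push, hgq, ← coeff_push,
      hg₂, coeff_ptU]
  have h2 : f.comp g = AlgHom.id R _ := by
    refine IsLocalization.algHom_ext (Submonoid.powers e) (Ideal.Quotient.algHom_ext _
      (Ideal.Quotient.algHom_ext _ (MvPolynomial.algHom_ext fun p => ?_)))
    show f (g (q₃ (q₂ (q₁ (MvPolynomial.X p))))) = q₃ (q₂ (q₁ (MvPolynomial.X p)))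
    rw [hgq]
    show f (g₀ (MvPolynomial.X p)) = _
    rw [MvPolynomial.aeval_X]
    rw [Datum.liftPt_toLu, evB_xB, coeff_push, coeff_push]
    congr 2
    rw [show d.v p.1 = π (MvPolynomial.X p.1) from (MvPolynomial.aeval_X _ _).symm, hψ₁]
    show (MonoidAlgebra.mapAlgHom M q₁ (Ψ (MvPolynomial.X p.1))).coeff p.2.1 = _
    rw [MonoidAlgebra.coeff_mapAlgHom]
    congr 1
    simp only [Ψ, MvPolynomial.aeval_X, MonoidAlgebra.coeff_sum, Finsupp.finsetSum_apply,
      MonoidAlgebra.coeff_single]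
    rw [Finset.sum_eq_single p.2 (fun x _ hx => Finsupp.single_eq_of_ne fun h => hx (Subtype.ext h.symm))
      (fun h => (h (Finset.mem_univ _)).elim), Finsupp.single_eq_same]
  haveI : Algebra.FinitePresentation R (V ⧸ J₁) := Algebra.FinitePresentation.quotient (coeffIdeal_fg _)
  haveI : Algebra.FinitePresentation R ((V ⧸ J₁) ⧸ J₂) := Algebra.FinitePresentation.quotient hJ₂
  haveI : Algebra.FinitePresentation ((V ⧸ J₁) ⧸ J₂) Q := IsLocalization.Away.finitePresentation e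
  haveI : Algebra.FinitePresentation R Q := Algebra.FinitePresentation.trans R ((V ⧸ J₁) ⧸ J₂) Q
  exact Algebra.FinitePresentation.equiv (AlgEquiv.ofAlgHom g f h1 h2)

end Datum

end Groth.L25.SplitHom
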