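import Groth.Agent.L25.SplitHom.Universal
import Groth.Agent.L25.SplitHom.Fp
import Groth.Agent.L25.SplitHom.Chart
import Groth.Agent.L20.QuasiAffine

/-!
# Homomorphisms from a split group to an affine group form a scheme over a chart
-/

set_option autoImplicit false
universe u

open CategoryTheory CategoryTheory.Limits MonoidalCategory CartesianMonoidalCategory
open AlgebraicGeometry TopologicalSpace
open scoped MonObj

set_option backward.isDefEq.respectTransparency.types false

noncomputable section

namespace Groth.L25.SplitHom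

open Groth.L25.Cocycle Groth.L25.HomScheme

section Morphisms

variable {S : Scheme.{u}} {R : Type u} [CommRing R] {j : Spec (CommRingCat.of R) ⟶ S}
  {C D : Type u} [CommRing C] [Algebra R C] [CommRing D] [Algebra R D]

theorem mor_injective {h h' : C →ₐ[R] D} (e : Cocycle.mor j h = Cocycle.mor j h') : h = h' := by
  refine AlgHom.ext fun c => ?_
  have h1 : CommRingCat.ofHom h.toRingHom = CommRingCat.ofHom h'.toRingHom :=
    Spec.map_injective (congrArg (fun m => m.left) e)
  exact congrArg (fun q : CommRingCat.of C ⟶ CommRingCat.of D => q.hom c) h1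

/-- a map of spectra over the chart comes from an algebra map -/
theorem exists_mor (b : Cocycle.X j D ⟶ Cocycle.X j C)
    (hb : b ≫ Cocycle.mor j (Algebra.ofId R C) = Cocycle.mor j (Algebra.ofId R D)) :
    ∃ h : C →ₐ[R] D, b = Cocycle.mor j h := by
  obtain ⟨ψ, hψ⟩ := Spec.map_surjective b.left
  have hc : CommRingCat.ofHom (algebraMap R C) ≫ ψ = CommRingCat.ofHom (algebraMap R D) := by
    apply Spec.map_injective
    rw [Spec.map_comp, hψ]
    exact congrArg (fun m => m.left) hb
  exact ⟨{ ψ.hom with commutes' := fun r => congrArg (fun q => q.hom r) hc }, Over.OverMorphism.ext hψ.symm⟩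

theorem mor_ofId (h : C →ₐ[R] D) :
    Cocycle.mor j h ≫ Cocycle.mor j (Algebra.ofId R C) = Cocycle.mor j (Algebra.ofId R D) := by
  rw [← mor_comp]
  exact congrArg (Cocycle.mor j) (Subsingleton.elim _ _)

/-- An affine test object over the chart is a spectrum. -/
theorem exists_alg {T : Over S} [IsAffine T.left] (p : T ⟶ Cocycle.X j R) :
    ∃ (C : Type u) (_ : CommRing C) (_ : Algebra R C) (i : Cocycle.X j C ≅ T),
      i.hom ≫ p = Cocycle.mor j (Algebra.ofId R C) := by
  obtain ⟨ψ, hψ⟩ := Spec.map_surjective (T.left.isoSpec.inv ≫ p.left)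
  let C : Type u := Γ(T.left, ⊤)
  let : Algebra R C := ψ.hom.toAlgebra
  refine ⟨C, inferInstance, inferInstance, Over.isoMk T.left.isoSpec.symm (by
    show T.left.isoSpec.inv ≫ T.hom = Spec.map ψ ≫ j
    rw [hψ, Category.assoc]
    congr 1
    rw [← Over.w p]
    exact congrArg (p.left ≫ ·) (by
      show Spec.map (CommRingCat.ofHom (RingHom.id R)) ≫ j = j
      rw [CommRingCat.ofHom_id, Spec.map_id, Category.id_comp])), Over.OverMorphism.ext hψ.symm⟩

end Morphisms

variable {S : Scheme.{u}} {R : Type u} [CommRing R] (j : Spec (CommRingCat.of R) ⟶ S) {M : Type} [CommGroup M]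
  {A : Type u} [CommRing A] [Bialgebra R A] (d : Datum R A)

/-- the open set of the pieces -/
def openB : (Spec (CommRingCat.of (Bu R A M))).Opens :=
  ⨆ F : Finset M, PrimeSpectrum.basicOpen (d.dB F)

theorem range_toLu (F : Finset M) :
    Set.range (Spec.map (CommRingCat.ofHom (d.toLu F).toRingHom)) =
      (PrimeSpectrum.basicOpen (d.dB F) : Set (PrimeSpectrum (Bu R A M))) :=
  PrimeSpectrum.localization_away_comap_range _ (d.dB F)

/-- the scheme of homomorphisms over the chart -/
def homSch (M : Type) [CommGroup M] : Over S :=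
  Over.mk ((openB (M := M) d).ι ≫ (Cocycle.X j (Bu R A M)).hom)

/-- its embedding into the spectrum of the coefficient ring -/
def toB : homSch j d M ⟶ Cocycle.X j (Bu R A M) := Over.homMk (openB d).ι rfl

/-- its structure map -/
def toR : homSch j d M ⟶ Cocycle.X j R := toB j d ≫ Cocycle.mor j (Algebra.ofId R (Bu R A M))

instance : IsOpenImmersion (toB (M := M) j d).left := inferInstanceAs (IsOpenImmersion (openB d).ι)

instance : Mono (toB (M := M) j d) := Over.mono_of_mono_left _

/-- the pieces -/
def piece (F : Finset M) : Cocycle.X j (d.Lu F) ⟶ homSch j d M :=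
  have hle : Set.range (Spec.map (CommRingCat.ofHom (d.toLu F).toRingHom)) ⊆ Set.range (openB (M := M) d).ι := by
    rw [Scheme.Opens.range_ι, range_toLu]
    exact le_iSup (fun F : Finset M => PrimeSpectrum.basicOpen (d.dB F)) F
  let l : Spec (CommRingCat.of (d.Lu F)) ⟶ (openB (M := M) d).toScheme :=
    IsOpenImmersion.lift (openB (M := M) d).ι (Spec.map (CommRingCat.ofHom (d.toLu F).toRingHom)) hle
  Over.homMk l (by
    show l ≫ (openB (M := M) d).ι ≫ _ = _
    rw [IsOpenImmersion.lift_fac_assoc]
    exact Over.w (Cocycle.mor j (d.toLu F)))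

theorem piece_toB (F : Finset M) : piece j d F ≫ toB j d = Cocycle.mor j (d.toLu F) := by
  haveI : IsOpenImmersion (openB (M := M) d).ι := inferInstance
  apply Over.OverMorphism.ext
  exact @IsOpenImmersion.lift_fac _ _ _ (openB (M := M) d).ι _ this _

theorem piece_toR (F : Finset M) : piece j d F ≫ toR j d = Cocycle.mor j (Algebra.ofId R (d.Lu F)) := by
  rw [toR, ← Category.assoc, piece_toB, mor_ofId]

theorem pieces_openFamily :
    IsOpenFamily (fun F : ULift.{u} (Finset M) => Cocycle.X j (d.Lu F.down)) (fun F => piece j d F.down) := by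
  refine ⟨fun F => ?_, fun t => ?_⟩
  · have h1 : IsOpenImmersion (Spec.map (CommRingCat.ofHom (d.toLu F.down).toRingHom)) :=
      IsOpenImmersion.of_isLocalization (d.dB F.down)
    have h2 : IsOpenImmersion ((piece j d F.down).left ≫ (toB (M := M) j d).left) := by
      have h3 : (piece j d F.down).left ≫ (toB j d).left =
          Spec.map (CommRingCat.ofHom (d.toLu F.down).toRingHom) :=
        congrArg (fun m => m.left) (piece_toB j d F.down)
      change IsOpenImmersion ((piece j d F.down).left ≫ (toB j d).left)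
      rw [h3]
      exact h1
    haveI := h2
    exact IsOpenImmersion.of_comp (piece j d F.down).left (toB (M := M) j d).left
  · obtain ⟨F, hF⟩ := Opens.mem_iSup.1 (show (openB d).ι t ∈ openB (M := M) d from t.2)
    obtain ⟨w, hw⟩ := (range_toLu d F).ge hF
    refine ⟨⟨F⟩, w, (toB (M := M) j d).left.isOpenEmbedding.injective ?_⟩
    rw [← Scheme.Hom.comp_apply]
    exact (congrArg (fun m : (Cocycle.X j (d.Lu F)).left ⟶ _ => m w)
      (congrArg (fun m => m.left) (piece_toB j d F))).trans hw

variable {H G : Over S} [GrpObj H] [GrpObj G]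

theorem exists_isRepOn [IsAffineHom H.hom] (e : Chart j H M) (g : GChart j G A) :
    ∃ ξ : (homFam H G).obj (homSch j d M), (homFam H G).IsRepOn (toR j d) ξ := by
  classical
  let Φ := homFam H G
  let famU : ∀ F : ULift.{u} (Finset M), Φ.obj (Cocycle.X j (d.Lu F.down)) := fun F =>
    ⟨famA e g (d.ptU F.down), isHomFamily_famA e g (d.isPt_ptU F.down)⟩
  have hres : ∀ (F : ULift.{u} (Finset M)) (E : Type u) [CommRing E] [Algebra R E] (f : d.Lu F.down →ₐ[R] E),
      (Φ.res (Cocycle.mor j f) (famU F)).1 = famA e g (push f (d.ptU F.down)) := fun F E _ _ f =>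
    famA_res e g (d.ptU F.down) f
  obtain ⟨ξ, hξ⟩ := homFam_zarGlue (H := H) (G := G) (homSch j d M) _ _ _ (pieces_openFamily j d) famU
    fun F F' Z a b eab => by
    let U : Z.left.affineCover.I₀ → Over S := fun i => Over.mk (Z.left.affineCover.f i ≫ Z.hom)
    let k : ∀ i, U i ⟶ Z := fun i => Over.homMk (Z.left.affineCover.f i) rfl
    have hU : IsOpenFamily U k := ⟨fun i => inferInstanceAs (IsOpenImmersion (Z.left.affineCover.f i)),
      fun t => Z.left.affineCover.exists_eq t⟩
    refine homFam_zarSep _ _ U k hU _ _ fun i => ?_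
    have : IsAffine (U i).left := inferInstanceAs (IsAffine (Z.left.affineCover.X i))
    obtain ⟨E, _, _, i', hi'⟩ := exists_alg ((k i ≫ a) ≫ Cocycle.mor j (Algebra.ofId R (d.Lu F.down)))
    have hab : (i'.hom ≫ k i ≫ b) ≫ Cocycle.mor j (Algebra.ofId R (d.Lu F'.down)) =
        Cocycle.mor j (Algebra.ofId R E) := by
      rw [← hi', ← piece_toR, ← piece_toR]
      simp only [Category.assoc]
      rw [reassoc_of% eab]
    obtain ⟨f, hf⟩ := exists_mor (i'.hom ≫ k i ≫ a) (by simpa only [Category.assoc] using hi')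
    obtain ⟨f', hf'⟩ := exists_mor (i'.hom ≫ k i ≫ b) hab
    have heq : f.comp (d.toLu F.down) = f'.comp (d.toLu F'.down) := mor_injective (j := j) (by
      rw [mor_comp, mor_comp, ← piece_toB, ← piece_toB, ← hf, ← hf']
      simp only [Category.assoc]
      rw [reassoc_of% eab])
    have hpush : push f (d.ptU F.down) = push f' (d.ptU F'.down) :=
      AlgHom.ext fun x => MonoidAlgebra.coeff_injective (Finsupp.ext fun m => by
        rw [coeff_push, coeff_push, Datum.coeff_ptU, Datum.coeff_ptU]
        exact DFunLike.congr_fun heq (xB x m))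
    have h1 : Φ.res (i'.hom ≫ k i) (Φ.res a (famU F)) = Φ.res (i'.hom ≫ k i) (Φ.res b (famU F')) := by
      rw [← Φ.res_comp, ← Φ.res_comp, Category.assoc, Category.assoc, hf, hf']
      exact Subtype.ext ((hres F E f).trans ((congrArg (famA e g) hpush).trans (hres F' E f').symm))
    have h2 := congrArg (Φ.res i'.inv) h1
    rwa [← Φ.res_comp, ← Φ.res_comp i'.inv, Iso.inv_hom_id_assoc] at h2
  have hpt : ∀ (F : ULift.{u} (Finset M)) (E : Type u) [CommRing E] [Algebra R E] (f : d.Lu F.down →ₐ[R] E),
      (Φ.res (Cocycle.mor j f ≫ piece j d F.down) ξ).1 = famA e g (push f (d.ptU F.down)) := fun F E _ _ f => by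
    rw [Φ.res_comp, hξ F]
    exact hres F E f
  refine ⟨ξ, Fam.IsRepOn.of_affine homFam_zarSep fun T _ p x => ?_⟩
  obtain ⟨C, _, _, i, hip⟩ := exists_alg p
  obtain ⟨ψ, hψ⟩ := exists_famA e g (Φ.res i.hom x).1
  have hψ' : IsPt ψ := isPt_of_isHomFamily e g (by rw [hψ]; exact (Φ.res i.hom x).2)
  obtain ⟨F, hF⟩ := d.exists_dB_eq_one ψ hψ'
  let f := d.liftPt ψ hψ' (by rw [hF]; exact isUnit_one : IsUnit (evB ψ hψ' (d.dB F)))
  refine ⟨i.inv ≫ Cocycle.mor j f ≫ piece j d F, ⟨?_, ?_⟩, fun b hb => ?_⟩
  · rw [Category.assoc, Category.assoc, piece_toR, mor_ofId, ← hip, Iso.inv_hom_id_assoc]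
  · have h1 : Φ.res (Cocycle.mor j f ≫ piece j d F) ξ = Φ.res i.hom x :=
      Subtype.ext (by rw [hpt ⟨F⟩ C f, Datum.push_liftPt, hψ])
    rw [Φ.res_comp, h1, ← Φ.res_comp, Iso.inv_hom_id, Φ.res_id]
  -- uniqueness
  · rw [← cancel_epi i.hom, Iso.hom_inv_id_assoc, ← cancel_mono (toB j d)]
    have hb1 : ((i.hom ≫ b) ≫ toB j d) ≫ Cocycle.mor j (Algebra.ofId R (Bu R A M)) =
        Cocycle.mor j (Algebra.ofId R C) := by
      rw [← hip, ← hb.1]
      simp only [toR, Category.assoc]
    obtain ⟨θ, hθ⟩ := exists_mor _ hb1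
    rw [hθ, Category.assoc, piece_toB, ← mor_comp]
    refine congrArg (Cocycle.mor j) (bu_hom_ext fun a m => ?_)
    have hfa : (f.comp (d.toLu F)) (xB a m) = evB ψ hψ' (xB a m) := d.liftPt_toLu ψ hψ' (by rw [hF]; exact isUnit_one) _
    rw [hfa, evB_xB]
    let J : Ideal C := Datum.annEl (θ (xB a m) - (ψ a).coeff m)
    have hJ : J = ⊤ := by
      by_contra hne
      obtain ⟨q, hq, hle⟩ := Ideal.exists_le_maximal J hne
      have hmem : (Spec.map (CommRingCat.ofHom θ.toRingHom)) (⟨q, hq.isPrime⟩ : PrimeSpectrum C) ∈ openB (M := M) d := by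
        have := congrArg (fun m => m.left) hθ
        refine (show _ ∈ openB (M := M) d from ?_)
        rw [show (Spec.map (CommRingCat.ofHom θ.toRingHom)) = (i.hom ≫ b).left ≫ (openB d).ι from this.symm,
          Scheme.Hom.comp_apply]
        exact ((i.hom ≫ b).left _).2
      obtain ⟨F', hF'⟩ := Opens.mem_iSup.1 hmem
      have hc : θ (d.dB F') ∉ q := hF'
      let c := θ (d.dB F')
      let E := Localization.Away c
      let l : C →ₐ[R] E := IsScalarTower.toAlgHom R C E
      let f' : d.Lu F' →ₐ[R] E := IsLocalization.liftAlgHom (M := Submonoid.powers (d.dB F')) (f := l.comp θ)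
        fun y => by
          obtain ⟨n, hn⟩ := y.2
          rw [← hn, map_pow]
          exact (IsLocalization.Away.algebraMap_isUnit c).pow n
      have hf' : f'.comp (d.toLu F') = l.comp θ := AlgHom.ext fun z => IsLocalization.lift_eq _ z
      have hfac : Cocycle.mor j l ≫ i.hom ≫ b = Cocycle.mor j f' ≫ piece j d F' := by
        rw [← cancel_mono (toB j d), Category.assoc, hθ, ← mor_comp, Category.assoc, piece_toB, ← mor_comp, hf']
      have h1 : famA e g (push l ψ) = famA e g (push f' (d.ptU F')) := by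
        rw [← hpt ⟨F'⟩ E f', ← hfac]
        rw [← famA_res e g ψ l, hψ, Φ.res_comp, Φ.res_comp, hb.2]
        rfl
      have h2 := congrArg (fun z : A →ₐ[R] MonoidAlgebra E M => (z a).coeff m) (famA_injective e g h1)
      simp only [coeff_push, Datum.coeff_ptU] at h2
      have h3 : l (θ (xB a m) - (ψ a).coeff m) = 0 := by
        rw [map_sub, h2, sub_eq_zero]
        exact (DFunLike.congr_fun hf' (xB a m)).symm
      obtain ⟨⟨_, n, rfl⟩, hn⟩ := (IsLocalization.map_eq_zero_iff (Submonoid.powers c) E _).1 h3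
      have h4 : c ^ n ∈ J := Datum.mem_annEl.2 (by rw [mul_comm]; exact hn)
      exact hc (hq.isPrime.mem_of_pow_mem n (hle h4))
    have h5 := Datum.mem_annEl.1 (show (1 : C) ∈ J from hJ ▸ Submodule.mem_top)
    rw [mul_one, sub_eq_zero] at h5
    exact h5

variable {d}

theorem isIndQuasiAffineHom_toR : MoreMor.IsIndQuasiAffineHom (toR (M := M) j d).left := by
  rw [Groth.L20.isIndQuasiAffineHom_iff]
  intro V _ U _ hU
  have : CompactSpace U := isCompact_iff_compactSpace.mp hU
  have : IsImmersion (U.ι ≫ (toB (M := M) j d).left) := inferInstance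
  have : IsAffine (Cocycle.X j (Bu R A M)).left := inferInstanceAs (IsAffine (Spec (CommRingCat.of (Bu R A M))))
  exact Scheme.IsQuasiAffine.of_isImmersion (U.ι ≫ (toB (M := M) j d).left)

theorem isSeparated_toR : IsSeparated (toR (M := M) j d).left := by
  show IsSeparated ((openB (M := M) d).ι ≫ Spec.map (CommRingCat.ofHom (Algebra.ofId R (Bu R A M)).toRingHom))
  infer_instance

theorem lfp_toR [Algebra.FinitePresentation R A] : LocallyOfFinitePresentation (toR (M := M) j d).left := by
  refine (IsZariskiLocalAtSource.iff_of_openCover (P := @LocallyOfFinitePresentation)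
    (pieces_openFamily (M := M) j d).cover).2 fun F => ?_
  show LocallyOfFinitePresentation ((piece j d F.down).left ≫ (toR j d).left)
  rw [← Over.comp_left, piece_toR]
  show LocallyOfFinitePresentation (Spec.map (CommRingCat.ofHom (Algebra.ofId R (d.Lu F.down)).toRingHom))
  rw [HasRingHomProperty.Spec_iff (P := @LocallyOfFinitePresentation)]
  show (algebraMap R (d.Lu F.down)).FinitePresentation
  exact RingHom.finitePresentation_algebraMap.2 (d.finitePresentation_Lu F.down)

end Groth.L25.SplitHom
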