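import Groth.Agent.L25.SplitHom.Coeff
import Mathlib.RingTheory.MvPolynomial.Basic
import Mathlib.RingTheory.Localization.Away.Basic
import Mathlib.RingTheory.Ideal.Quotient.Operations
import Mathlib.Algebra.MonoidAlgebra.Support
import Mathlib.LinearAlgebra.TensorProduct.Finiteness

/-!
# The universal coefficient ring of homomorphisms from a split group to an affine group

The ring generated by the coefficients of all points; away from a determinant the coefficients are finitely
supported and form a universal point.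
-/

set_option autoImplicit false
universe u

open TensorProduct WithConv
open scoped Classical Pointwise

noncomputable section

namespace Groth.L25.SplitHom

variable {R : Type u} [CommRing R] {A : Type u} [CommRing A] [Bialgebra R A] {M : Type} [CommGroup M]
  {C : Type u} [CommRing C] [Algebra R C] {D : Type u} [CommRing D] [Algebra R D]

/-- all coefficient relations -/
def rel (R : Type u) [CommRing R] (A : Type u) [CommRing A] [Bialgebra R A] (M : Type) [CommGroup M] :
    Ideal (MvPolynomial (A × M) R) where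
  carrier := {f | ∀ (C : Type u) [CommRing C] [Algebra R C] (ψ : A →ₐ[R] MonoidAlgebra C M), IsPt ψ →
    MvPolynomial.aeval (fun p : A × M => (ψ p.1).coeff p.2) f = 0}
  add_mem' {f g} hf hg C _ _ ψ hψ := by rw [map_add, hf C ψ hψ, hg C ψ hψ, add_zero]
  zero_mem' C _ _ ψ _ := map_zero _
  smul_mem' c f hf C _ _ ψ hψ := by rw [smul_eq_mul, map_mul, hf C ψ hψ, mul_zero]

/-- the ring of coefficients -/
abbrev Bu (R : Type u) [CommRing R] (A : Type u) [CommRing A] [Bialgebra R A] (M : Type) [CommGroup M] : Type u :=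
  MvPolynomial (A × M) R ⧸ rel R A M

/-- the coefficient of `a` at `m` -/
def xB (a : A) (m : M) : Bu R A M := Ideal.Quotient.mk _ (MvPolynomial.X (a, m))

/-- evaluation at a point -/
def evB (ψ : A →ₐ[R] MonoidAlgebra C M) (hψ : IsPt ψ) : Bu R A M →ₐ[R] C :=
  Ideal.Quotient.liftₐ (rel R A M) (MvPolynomial.aeval fun p : A × M => (ψ p.1).coeff p.2)
    fun f hf => hf C ψ hψ

theorem evB_xB (ψ : A →ₐ[R] MonoidAlgebra C M) (hψ : IsPt ψ) (a : A) (m : M) :
    evB ψ hψ (xB a m) = (ψ a).coeff m := by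
  show MvPolynomial.aeval _ (MvPolynomial.X (a, m)) = _
  rw [MvPolynomial.aeval_X]

theorem bu_hom_ext {f g : Bu R A M →ₐ[R] C} (h : ∀ a m, f (xB a m) = g (xB a m)) : f = g :=
  Ideal.Quotient.algHom_ext _ (MvPolynomial.algHom_ext fun p => h p.1 p.2)

theorem evB_push (h : C →ₐ[R] D) (ψ : A →ₐ[R] MonoidAlgebra C M) (hψ : IsPt ψ) :
    evB (push h ψ) (hψ.push h) = h.comp (evB ψ hψ) :=
  bu_hom_ext fun a m => by rw [AlgHom.comp_apply, evB_xB, evB_xB, coeff_push]

/-- points separate the coefficient ring -/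
theorem bu_eq_zero {b : Bu R A M}
    (h : ∀ (C : Type u) [CommRing C] [Algebra R C] (ψ : A →ₐ[R] MonoidAlgebra C M) (hψ : IsPt ψ),
      evB ψ hψ b = 0) : b = 0 := by
  obtain ⟨f, rfl⟩ := Ideal.Quotient.mk_surjective b
  exact Ideal.Quotient.eq_zero_iff_mem.2 fun C _ _ ψ hψ => h C ψ hψ

theorem bu_ext {b b' : Bu R A M}
    (h : ∀ (C : Type u) [CommRing C] [Algebra R C] (ψ : A →ₐ[R] MonoidAlgebra C M) (hψ : IsPt ψ),
      evB ψ hψ b = evB ψ hψ b') : b = b' :=
  sub_eq_zero.1 (bu_eq_zero fun C _ _ ψ hψ => by rw [map_sub, h, sub_self])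

namespace Datum

variable (d : Datum R A)

/-- the matrix over the coefficient ring -/
def matB (F : Finset M) : Matrix (Fin d.n) (Fin d.n) (Bu R A M) :=
  Matrix.of fun i k => (if i = k then 1 else 0) - algebraMap R _ (Coalgebra.counit (d.b i k)) +
    ∑ m ∈ F, xB (d.b i k) m

/-- the determinant -/
def dB (F : Finset M) : Bu R A M := (d.matB F).det

theorem evB_dB (F : Finset M) (ψ : A →ₐ[R] MonoidAlgebra C M) (hψ : IsPt ψ) :
    evB ψ hψ (d.dB F) = (d.mat F ψ).det := by
  rw [dB, AlgHom.map_det]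
  congr 1
  ext i k
  simp [Datum.mat, Datum.matB, AlgHom.mapMatrix_apply, map_sum, evB_xB]

theorem exists_dB_eq_one (ψ : A →ₐ[R] MonoidAlgebra C M) (hψ : IsPt ψ) :
    ∃ F : Finset M, evB ψ hψ (d.dB F) = 1 := by
  refine ⟨Finset.univ.biUnion fun p : Fin d.n × Fin d.n => (ψ (d.b p.1 p.2)).coeff.support, ?_⟩
  rw [evB_dB]
  refine d.det_mat_eq_one hψ fun i k m hm => ?_
  by_contra hne
  exact hm (Finset.mem_biUnion.2 ⟨(i, k), Finset.mem_univ _, Finsupp.mem_support_iff.2 hne⟩)

/-- the coefficient ring of the open piece -/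
abbrev Lu (F : Finset M) : Type u := Localization.Away (d.dB F)

/-- the map to the open piece -/
abbrev toLu (F : Finset M) : Bu R A M →ₐ[R] d.Lu F := IsScalarTower.toAlgHom R (Bu R A M) (d.Lu F)

/-- `G` bounds the coefficients of `a` on the piece of `F` -/
def Bd (F : Finset M) (a : A) (G : Finset M) : Prop :=
  ∀ (C : Type u) [CommRing C] [Algebra R C] (ψ : A →ₐ[R] MonoidAlgebra C M) (hψ : IsPt ψ), ∀ m ∉ G,
    evB ψ hψ (d.dB F) * (ψ a).coeff m = 0

/-- the annihilator of an element -/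
def annEl (e : C) : Ideal C where
  carrier := {x | e * x = 0}
  add_mem' {x y} hx hy := by
    show e * (x + y) = 0
    rw [mul_add, hx, hy, add_zero]
  zero_mem' := mul_zero e
  smul_mem' c x hx := by
    show e * (c * x) = 0
    rw [mul_left_comm, hx, mul_zero]

theorem mem_annEl {e x : C} : x ∈ annEl e ↔ e * x = 0 := Iff.rfl

theorem exists_bd (F : Finset M) (a : A) : ∃ G, d.Bd F a G := by
  have ha : a ∈ Algebra.adjoin R (Set.range d.v) := by rw [d.adjoin_v]; trivial
  induction ha using Algebra.adjoin_induction with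
  | mem x hx =>
    obtain ⟨i, rfl⟩ := hx
    exact ⟨F, fun C _ _ ψ hψ m hm => by rw [evB_dB]; exact d.det_mul_coeff hψ F hm i⟩
  | algebraMap r =>
    refine ⟨{1}, fun C _ _ ψ hψ m hm => ?_⟩
    rw [AlgHom.commutes, IsScalarTower.algebraMap_apply R C (MonoidAlgebra C M), MonoidAlgebra.coe_algebraMap]
    simp only [Function.comp_apply, MonoidAlgebra.coeff_single]
    rw [Finsupp.single_eq_of_ne (fun h => hm (by rw [h]; exact Finset.mem_singleton_self _)), mul_zero]
  | add x y _ _ hx hy =>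
    obtain ⟨G, hG⟩ := hx
    obtain ⟨G', hG'⟩ := hy
    refine ⟨G ∪ G', fun C _ _ ψ hψ m hm => ?_⟩
    rw [map_add, MonoidAlgebra.coeff_add, Finsupp.add_apply, mul_add,
      hG C ψ hψ m (fun h => hm (Finset.mem_union_left _ h)),
      hG' C ψ hψ m (fun h => hm (Finset.mem_union_right _ h)), add_zero]
  | mul x y _ _ hx hy =>
    obtain ⟨G, hG⟩ := hx
    obtain ⟨G', hG'⟩ := hy
    refine ⟨G * G', fun C _ _ ψ hψ m hm => ?_⟩
    let e : C := evB ψ hψ (d.dB F)
    let q : C →ₐ[R] C ⧸ annEl e := Ideal.Quotient.mkₐ R _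
    have hs : ∀ (z : A) (H : Finset M), d.Bd F z H → (push q ψ z).coeff.support ⊆ H := by
      intro z H hH n hn
      by_contra hnH
      exact (Finsupp.mem_support_iff.1 hn) (by
        rw [coeff_push]
        exact Ideal.Quotient.eq_zero_iff_mem.2 (hH C ψ hψ n hnH))
    have h1 : (push q ψ (x * y)).coeff m = 0 := by
      rw [map_mul]
      refine Finsupp.notMem_support_iff.1 fun h => hm ?_
      exact Finset.mul_subset_mul (hs x G hG) (hs y G' hG')
        (MonoidAlgebra.support_coeff_mul_subset (push q ψ x) (push q ψ y) h)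
    rw [coeff_push] at h1
    exact mem_annEl.1 (Ideal.Quotient.eq_zero_iff_mem.1 h1)

/-- a chosen bound -/
def bd (F : Finset M) (a : A) : Finset M := (d.exists_bd F a).choose

theorem bd_spec (F : Finset M) (a : A) : d.Bd F a (d.bd F a) := (d.exists_bd F a).choose_spec

theorem isUnit_dB (F : Finset M) : IsUnit (d.toLu F (d.dB F)) :=
  IsLocalization.Away.algebraMap_isUnit (d.dB F)

theorem toLu_eq_zero {F : Finset M} {b : Bu R A M}
    (h : ∀ (C : Type u) [CommRing C] [Algebra R C] (ψ : A →ₐ[R] MonoidAlgebra C M) (hψ : IsPt ψ),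
      evB ψ hψ (d.dB F) * evB ψ hψ b = 0) : d.toLu F b = 0 := by
  have h1 : d.dB F * b = 0 := bu_eq_zero fun C _ _ ψ hψ => by rw [map_mul, h]
  have h2 := congrArg (d.toLu F) h1
  rw [map_mul, map_zero] at h2
  exact (d.isUnit_dB F).mul_right_eq_zero.1 h2

/-- equations on the piece may be tested on points with bounded coefficients -/
theorem toLu_eq_zero_of_test {F : Finset M} {b : Bu R A M}
    (h : ∀ (C : Type u) [CommRing C] [Algebra R C] (ψ : A →ₐ[R] MonoidAlgebra C M) (hψ : IsPt ψ),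
      (∀ a, ∀ m ∉ d.bd F a, (ψ a).coeff m = 0) → evB ψ hψ b = 0) : d.toLu F b = 0 := by
  refine d.toLu_eq_zero fun C _ _ ψ hψ => ?_
  let e : C := evB ψ hψ (d.dB F)
  let q : C →ₐ[R] C ⧸ annEl e := Ideal.Quotient.mkₐ R _
  have h1 := h (C ⧸ annEl e) (push q ψ) (hψ.push q) fun a m hm => by
    rw [coeff_push]
    exact Ideal.Quotient.eq_zero_iff_mem.2 (d.bd_spec F a C ψ hψ m hm)
  rw [evB_push q ψ hψ, AlgHom.comp_apply] at h1
  exact mem_annEl.1 (Ideal.Quotient.eq_zero_iff_mem.1 h1)

/-- the universal element attached to `a`, before localisation -/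
def elB (F : Finset M) (a : A) : MonoidAlgebra (Bu R A M) M :=
  ∑ m ∈ d.bd F a, MonoidAlgebra.single m (xB a m)

/-- the universal element attached to `a` -/
def el (F : Finset M) (a : A) : MonoidAlgebra (d.Lu F) M := MonoidAlgebra.mapAlgHom M (d.toLu F) (d.elB F a)

theorem coeff_elB (F : Finset M) (a : A) (m : M) :
    (d.elB F a).coeff m = if m ∈ d.bd F a then xB a m else 0 := by
  simp [elB, MonoidAlgebra.coeff_sum, Finsupp.finsetSum_apply, MonoidAlgebra.coeff_single, Finsupp.single_apply]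

theorem coeff_el (F : Finset M) (a : A) (m : M) : (d.el F a).coeff m = d.toLu F (xB a m) := by
  rw [el, MonoidAlgebra.coeff_mapAlgHom, coeff_elB]
  split_ifs with h
  · rfl
  · rw [map_zero]
    exact (d.toLu_eq_zero fun C _ _ ψ hψ => by rw [evB_xB]; exact d.bd_spec F a C ψ hψ m h).symm

theorem mapAlgHom_elB (F : Finset M) (ψ : A →ₐ[R] MonoidAlgebra C M) (hψ : IsPt ψ) (a : A)
    (h : ∀ m ∉ d.bd F a, (ψ a).coeff m = 0) : MonoidAlgebra.mapAlgHom M (evB ψ hψ) (d.elB F a) = ψ a := by
  refine MonoidAlgebra.coeff_injective (Finsupp.ext fun m => ?_)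
  rw [MonoidAlgebra.coeff_mapAlgHom, coeff_elB]
  split_ifs with hm
  · rw [evB_xB]
  · rw [map_zero, h m hm]

/-- the universal point on the piece of `F` -/
def ptU (F : Finset M) : A →ₐ[R] MonoidAlgebra (d.Lu F) M where
  toFun := d.el F
  map_one' := MonoidAlgebra.coeff_injective (Finsupp.ext fun m => by
    rw [coeff_el, show xB (R := R) (1 : A) m = if m = 1 then 1 else 0 from bu_ext fun C _ _ ψ hψ => by
      rw [evB_xB, map_one, MonoidAlgebra.one_def, MonoidAlgebra.coeff_single, Finsupp.single_apply]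
      split_ifs <;> simp_all]
    rw [MonoidAlgebra.one_def, MonoidAlgebra.coeff_single, Finsupp.single_apply]
    split_ifs <;> simp_all)
  map_zero' := MonoidAlgebra.coeff_injective (Finsupp.ext fun m => by
    rw [coeff_el, show xB (R := R) (0 : A) m = 0 from bu_ext fun C _ _ ψ hψ => by rw [evB_xB]; simp]
    simp)
  map_add' a b := MonoidAlgebra.coeff_injective (Finsupp.ext fun m => by
    rw [MonoidAlgebra.coeff_add, Finsupp.add_apply, coeff_el, coeff_el, coeff_el, ← map_add]
    congr 1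
    exact bu_ext fun C _ _ ψ hψ => by rw [map_add, evB_xB, evB_xB, evB_xB]; simp)
  map_mul' a b := MonoidAlgebra.coeff_injective (Finsupp.ext fun m => by
    rw [el, el, el, ← map_mul, MonoidAlgebra.coeff_mapAlgHom, MonoidAlgebra.coeff_mapAlgHom]
    refine sub_eq_zero.1 ?_
    rw [← map_sub]
    refine d.toLu_eq_zero_of_test fun C _ _ ψ hψ hsupp => ?_
    rw [map_sub, ← MonoidAlgebra.coeff_mapAlgHom, ← MonoidAlgebra.coeff_mapAlgHom, map_mul,
      d.mapAlgHom_elB F ψ hψ a (hsupp a), d.mapAlgHom_elB F ψ hψ b (hsupp b),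
      d.mapAlgHom_elB F ψ hψ (a * b) (hsupp (a * b)), map_mul, sub_self])
  commutes' r := MonoidAlgebra.coeff_injective (Finsupp.ext fun m => by
    rw [coeff_el, IsScalarTower.algebraMap_apply R (d.Lu F) (MonoidAlgebra (d.Lu F) M), MonoidAlgebra.coe_algebraMap,
      show xB (R := R) (algebraMap R A r) m = if m = 1 then algebraMap R (Bu R A M) r else 0 from
        bu_ext fun C _ _ ψ hψ => by
          rw [evB_xB, AlgHom.commutes, IsScalarTower.algebraMap_apply R C (MonoidAlgebra C M),
            MonoidAlgebra.coe_algebraMap]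
          simp only [Function.comp_apply, MonoidAlgebra.coeff_single, Finsupp.single_apply]
          split_ifs <;> simp_all]
    simp only [Function.comp_apply, MonoidAlgebra.coeff_single, Finsupp.single_apply]
    split_ifs <;> simp_all)

theorem coeff_ptU (F : Finset M) (a : A) (m : M) : (d.ptU F a).coeff m = d.toLu F (xB a m) := d.coeff_el F a m

theorem isPt_ptU (F : Finset M) : IsPt (d.ptU F) where
  mul := by
    refine WithConv.ext (AlgHom.ext fun a => MonoidAlgebra.coeff_injective (Finsupp.ext fun p => ?_))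
    obtain ⟨m, m'⟩ := p
    obtain ⟨s, hs⟩ := TensorProduct.exists_finset (Coalgebra.comul (R := R) a)
    refine (coeff_mul_apply (d.ptU F) (d.ptU F) a s Prod.fst Prod.snd hs m m').trans ?_
    show _ = (mapM (R := R) _ _ (d.ptU F a)).coeff (m, m')
    rw [coeff_diag, coeff_ptU]
    simp only [coeff_ptU, ← map_mul, ← map_sum]
    rw [show ∑ t ∈ s, xB (R := R) t.1 m * xB t.2 m' = if m = m' then xB a m else 0 from bu_ext fun C _ _ ψ hψ => by
      simp only [map_sum, map_mul, evB_xB]
      rw [hψ.coeff_eq a s Prod.fst Prod.snd hs]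
      split_ifs <;> simp [evB_xB]]
    split_ifs <;> simp
  one := by
    refine WithConv.ext (AlgHom.ext fun a => ?_)
    show aug (R := R) (d.Lu F) (d.ptU F a) = algebraMap R (d.Lu F) (Coalgebra.counit a)
    have h0 : ∀ m ∉ d.bd F a, (d.ptU F a).coeff m = 0 := fun m hm => by
      show (d.el F a).coeff m = 0
      rw [el, MonoidAlgebra.coeff_mapAlgHom, coeff_elB, if_neg hm, map_zero]
    rw [aug_eq_sum (R := R) _ h0]
    simp only [coeff_ptU, ← map_sum]
    rw [← (d.toLu F).commutes]
    refine sub_eq_zero.1 ?_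
    rw [← map_sub]
    refine d.toLu_eq_zero_of_test fun C _ _ ψ hψ hsupp => ?_
    rw [map_sub, map_sum, AlgHom.commutes]
    simp only [evB_xB]
    rw [hψ.sum_eq a (hsupp a), sub_self]

/-- the classifying map of a point in the piece of `F` -/
def liftPt {F : Finset M} (ψ : A →ₐ[R] MonoidAlgebra C M) (hψ : IsPt ψ) (hu : IsUnit (evB ψ hψ (d.dB F))) :
    d.Lu F →ₐ[R] C :=
  IsLocalization.liftAlgHom (M := Submonoid.powers (d.dB F)) (f := evB ψ hψ) fun y => by
    obtain ⟨k, hk⟩ := y.2
    rw [← hk, map_pow]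
    exact hu.pow k

theorem liftPt_toLu {F : Finset M} (ψ : A →ₐ[R] MonoidAlgebra C M) (hψ : IsPt ψ)
    (hu : IsUnit (evB ψ hψ (d.dB F))) (b : Bu R A M) : d.liftPt ψ hψ hu (d.toLu F b) = evB ψ hψ b :=
  IsLocalization.lift_eq _ _

theorem push_liftPt {F : Finset M} (ψ : A →ₐ[R] MonoidAlgebra C M) (hψ : IsPt ψ)
    (hu : IsUnit (evB ψ hψ (d.dB F))) : push (d.liftPt ψ hψ hu) (d.ptU F) = ψ :=
  AlgHom.ext fun a => MonoidAlgebra.coeff_injective (Finsupp.ext fun m => by
    rw [coeff_push, coeff_ptU, liftPt_toLu, evB_xB])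

theorem comp_toLu_eq {F : Finset M} (g : d.Lu F →ₐ[R] C) :
    g.comp (d.toLu F) = evB (push g (d.ptU F)) ((d.isPt_ptU F).push g) :=
  bu_hom_ext fun a m => by rw [AlgHom.comp_apply, evB_xB, coeff_push, coeff_ptU]

theorem lu_hom_ext {F : Finset M} {g g' : d.Lu F →ₐ[R] C} (h : ∀ i m, g (d.toLu F (xB (d.v i) m)) =
    g' (d.toLu F (xB (d.v i) m))) : g = g' := by
  have h1 : push g (d.ptU F) = push g' (d.ptU F) := pt_ext d fun i =>
    MonoidAlgebra.coeff_injective (Finsupp.ext fun m => by rw [coeff_push, coeff_push, coeff_ptU]; exact h i m)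
  refine IsLocalization.algHom_ext (Submonoid.powers (d.dB F)) (bu_hom_ext fun a m => ?_)
  show g (d.toLu F (xB a m)) = g' (d.toLu F (xB a m))
  rw [← coeff_ptU, ← coeff_push, ← coeff_push, h1]

end Datum

end Groth.L25.SplitHom
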